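import Mathlib
import Cfsg.Agent.H364.SpSmall

/-!
# S3677, rows `PSp(2n, q)` and `PΩ(2n + 1, q)`: what is known about `G ⧸ K` (helper221)

`G` has the order and the class sizes of `PSp(2n, q)` or `PΩ(2n + 1, q)`, `n ≥ 3`, `q = p ^ f`, `M = |G|`, `K` is the largest
normal subgroup of order prime to the primes `r` with `orderOf (q : ZMod r) = cl n q`, `κ = |K|`, `Γ = G ⧸ K`, `S` the socle.
-/

set_option autoImplicit false

namespace Cfsg.Agent.H221.CS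

open Subgroup Cfsg.Agent.H902

universe u

/-- the class of the chosen primes -/
def cl (n q : ℕ) : ℕ := if Even n ∨ q % 4 = 1 then 2 * n else n

/-- the order of the chosen torus, an odd number -/
def mm (n q : ℕ) : ℕ := (if Even n ∨ q % 4 = 1 then q ^ n + 1 else q ^ n - 1) / Nat.gcd 2 (q - 1)

/-- what is known about the normal simple subgroup `S` of `Γ = G ⧸ K`, `M = |G|`, `κ = |K|` -/
structure Dat (n p f M κ : ℕ) (Γ : Type u) [Group Γ] (S : Subgroup Γ) : Prop where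
  hn : 3 ≤ n
  hY : Art.Real (.C n) p f M
  card : κ * Nat.card Γ = M
  normal : S.Normal
  simple : IsSimpleGroup S
  nonab : ¬ ∀ a b : S, a * b = b * a
  cent : centralizer (S : Set Γ) = ⊥
  /-- some chosen prime divides `|S|` -/
  dvd : ∃ r : ℕ, r.Prime ∧ orderOf ((p ^ f : ℕ) : ZMod r) = cl n (p ^ f) ∧ r ∣ Nat.card S
  /-- the centralizers of the elements of order `r` -/
  tor : ∀ r : ℕ, r.Prime → orderOf ((p ^ f : ℕ) : ZMod r) = cl n (p ^ f) → ∀ y : Γ, orderOf y = r →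
    Nat.card (centralizer ({y} : Set Γ)) ∣ mm n (p ^ f)
  /-- the number of the powers of `y` conjugate to `y` -/
  fus : ∀ r : ℕ, r.Prime → orderOf ((p ^ f : ℕ) : ZMod r) = cl n (p ^ f) → M.factorization r = 1 → ∀ y : Γ, orderOf y = r →
    Nat.card {z : Γ // z ∈ zpowers y ∧ IsConj y z} ≤ 2 * n
  /-- the prime divisors of `κ` -/
  kap : ∀ l : ℕ, l.Prime → l ∣ κ → l = p ∨ (5 ≤ n ∧ p ^ f = 2 ∧ l = 3) ∨ (5 ≤ n ∧ p ^ f = 3 ∧ l = 2) ∨
    (6 ≤ n ∧ (Even n ∨ p ^ f ≤ 3) ∧ l ∣ mm n (p ^ f) ∧ orderOf ((p ^ f : ℕ) : ZMod l) ≠ cl n (p ^ f))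
  /-- the `p`-part of `κ` -/
  kapp : ¬ (n = 3 ∧ p ^ f = 2) → ∃ j, 2 * j ≤ n ∧ κ.factorization p = 2 * n * f * j
  kap32 : n = 3 → p ^ f = 2 → ∃ j, κ = 8 ^ j

end Cfsg.Agent.H221.CS
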