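import Mathlib
import Cfsg.Agent.H221.CS.Data
import Cfsg.Agent.H364.Reduce
import Cfsg.Agent.H364.SpShape

/-!
# S3677, rows `PSp(2n, q)` and `PΩ(2n + 1, q)`: first consequences of `Dat` (helper221)
-/

set_option autoImplicit false
set_option linter.unusedSectionVars false

namespace Cfsg.Agent.H221.CS

open Subgroup Cfsg Cfsg.Agent.H364 Cfsg.Agent.H902 Cfsg.Agent.H902.Art Cfsg.Agent.H902.Lte
open Cfsg.Agent.H364.SpVal Cfsg.Agent.H364.SpSmall Cfsg.Agent.H364.SpIneq

universe u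

/-! ### the numbers `cl` and `mm` -/

theorem dd_dvd {n q : ℕ} (hq : 2 ≤ q) (hn : 1 ≤ n) :
    Nat.gcd 2 (q - 1) ∣ (if Even n ∨ q % 4 = 1 then q ^ n + 1 else q ^ n - 1) := by
  rcases Nat.even_or_odd q with hev | ho
  · have h5 : Nat.gcd 2 (q - 1) = 1 := by
      rw [← Nat.coprime_iff_gcd_eq_one, Nat.coprime_two_left]
      obtain ⟨c, hc⟩ := hev
      exact ⟨c - 1, by omega⟩
    rw [h5]; exact one_dvd _
  · have h5 : Nat.gcd 2 (q - 1) = 2 := Nat.gcd_eq_left (by obtain ⟨c, hc⟩ := ho; exact ⟨c, by omega⟩)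
    rw [h5]
    obtain ⟨c, hc⟩ := ho.pow (n := n)
    split_ifs
    · exact ⟨c + 1, by omega⟩
    · exact ⟨c, by omega⟩

theorem mm_mul {n q : ℕ} (hq : 2 ≤ q) (hn : 1 ≤ n) :
    Nat.gcd 2 (q - 1) * mm n q = if Even n ∨ q % 4 = 1 then q ^ n + 1 else q ^ n - 1 :=
  Nat.mul_div_cancel' (dd_dvd hq hn)

theorem mm_le {n q : ℕ} (hq : 2 ≤ q) (hn : 1 ≤ n) : mm n q ≤ q ^ n + 1 := by
  have h1 := mm_mul hq hn
  have h2 : 0 < Nat.gcd 2 (q - 1) := Nat.gcd_pos_of_pos_left _ (by norm_num)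
  have h3 : mm n q ≤ Nat.gcd 2 (q - 1) * mm n q := Nat.le_mul_of_pos_left _ h2
  rw [h1] at h3
  refine h3.trans ?_
  split_ifs <;> omega

theorem mm_pos {n q : ℕ} (hq : 2 ≤ q) (hn : 1 ≤ n) : 0 < mm n q := by
  have h1 := mm_mul hq hn
  have h2 : 1 < q ^ n := Nat.one_lt_pow (by omega) (by omega)
  rcases Nat.eq_zero_or_pos (mm n q) with h | h
  · rw [h, mul_zero] at h1
    split_ifs at h1 <;> omega
  · exact h

theorem pow_mod_four {q n : ℕ} (h : q % 4 = 1) : q ^ n % 4 = 1 := by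
  rw [Nat.pow_mod, h, one_pow]; rfl

theorem mm_odd {n q : ℕ} (hq : 2 ≤ q) (hn : 1 ≤ n) : Odd (mm n q) := by
  have h1 := mm_mul hq hn
  rcases Nat.even_or_odd q with hev | ho
  · have h5 : Nat.gcd 2 (q - 1) = 1 := by
      rw [← Nat.coprime_iff_gcd_eq_one, Nat.coprime_two_left]
      obtain ⟨c, hc⟩ := hev
      exact ⟨c - 1, by omega⟩
    rw [h5, one_mul] at h1
    rw [h1]
    have h6 : Even (q ^ n) := hev.pow_of_ne_zero (by omega)
    have h7 : 1 ≤ q ^ n := Nat.one_le_pow _ _ (by omega)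
    obtain ⟨c, hc⟩ := h6
    split_ifs
    · exact ⟨c, by omega⟩
    · exact ⟨c - 1, by omega⟩
  · have h5 : Nat.gcd 2 (q - 1) = 2 := Nat.gcd_eq_left (by obtain ⟨c, hc⟩ := ho; exact ⟨c, by omega⟩)
    rw [h5] at h1
    have hmod : q % 4 = 1 ∨ q % 4 = 3 := by
      obtain ⟨c, hc⟩ := ho; omega
    have hsq : q ^ 2 % 4 = 1 := by
      rw [Nat.pow_mod]
      rcases hmod with h | h <;> rw [h]
    split_ifs at h1 with hc
    · have h2 : q ^ n % 4 = 1 := by
        rcases hc with ⟨j, hj⟩ | hc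
        · rw [hj, ← two_mul, pow_mul]
          exact pow_mod_four hsq
        · exact pow_mod_four hc
      rw [Nat.odd_iff]; omega
    · rw [not_or] at hc
      obtain ⟨j, hj⟩ := Nat.not_even_iff_odd.1 hc.1
      have h3 : q % 4 = 3 := by omega
      have h2 : q ^ n % 4 = 3 := by
        rw [hj, pow_succ, pow_mul, Nat.mul_mod, pow_mod_four hsq, h3]
      rw [Nat.odd_iff]; omega

theorem mm_dvd_even {n q : ℕ} (hq : 2 ≤ q) (hn : 1 ≤ n) (he : Even n) : mm n q ∣ q ^ n + 1 := by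
  have h1 := mm_mul hq hn
  rw [if_pos (Or.inl he)] at h1
  exact Dvd.intro_left _ h1

/-- the prime divisors of `mm` not of class `2n` have small order -/
theorem order_small {n q l : ℕ} (hq : 2 ≤ q) (hn : 1 ≤ n) (he : Even n) (hl : l.Prime) (hd : l ∣ mm n q)
    (ho : orderOf ((q : ℕ) : ZMod l) ≠ 2 * n) : orderOf ((q ^ 2 : ℕ) : ZMod l) ≤ n / 2 := by
  have := Fact.mk hl
  have hodd : l ≠ 2 := by
    rintro rfl
    exact Nat.not_even_iff_odd.2 (mm_odd hq hn) (even_iff_two_dvd.2 hd)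
  have h1 : ((q ^ n + 1 : ℕ) : ZMod l) = 0 := (ZMod.natCast_eq_zero_iff _ _).2 (hd.trans (mm_dvd_even hq hn he))
  have h2 : ((q : ℕ) : ZMod l) ^ n = -1 := by
    push_cast at h1
    exact eq_neg_of_add_eq_zero_left h1
  have h3 : ((q : ℕ) : ZMod l) ^ n ≠ 1 := by
    rw [h2]
    intro h4
    have h5 : ((2 : ℕ) : ZMod l) = 0 := by
      push_cast
      have : (1 : ZMod l) + 1 = 0 := by
        nth_rewrite 1 [← h4]
        ring
      rw [← this]; norm_num
    rw [ZMod.natCast_eq_zero_iff] at h5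
    exact hodd ((Nat.prime_dvd_prime_iff_eq hl Nat.prime_two).1 h5)
  have h4 : orderOf ((q : ℕ) : ZMod l) ∣ 2 * n := by
    apply orderOf_dvd_of_pow_eq_one
    rw [mul_comm, pow_mul, h2]; norm_num
  set o := orderOf ((q : ℕ) : ZMod l) with hodef
  have h5 : ¬ o ∣ n := fun h => h3 (orderOf_dvd_iff_pow_eq_one.1 h)
  have h6 : Even o := by
    by_contra h
    apply h5
    exact (Nat.Coprime.dvd_of_dvd_mul_left (Nat.coprime_two_right.2 (Nat.not_even_iff_odd.1 h)) h4)
  have h7 : orderOf ((q ^ 2 : ℕ) : ZMod l) = o / 2 := by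
    rw [Nat.cast_pow, orderOf_pow' _ (by norm_num), ← hodef, Nat.gcd_eq_right h6.two_dvd]
  rw [h7]
  obtain ⟨k, hk⟩ := h4
  have hk2 : 2 ≤ k := by
    by_contra h
    have : k = 0 ∨ k = 1 := by omega
    rcases this with rfl | rfl
    · omega
    · exact ho (by omega)
  have h8 : 2 * o ≤ 2 * n := by rw [hk, mul_comm 2 o]; exact Nat.mul_le_mul_left _ hk2
  omega

/-- the prime divisors of `mm` not of the class `cl` have small order -/
theorem order_small' {n q l : ℕ} (hq : 2 ≤ q) (hn : 1 ≤ n) (he : Even n ∨ q ≤ 3) (hl : l.Prime) (hd : l ∣ mm n q)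
    (ho : orderOf ((q : ℕ) : ZMod l) ≠ cl n q) : orderOf ((q ^ 2 : ℕ) : ZMod l) ≤ n / 2 := by
  by_cases hev : Even n
  · rw [cl, if_pos (Or.inl hev)] at ho
    exact order_small hq hn hev hl hd ho
  · have hq3 : q ≤ 3 := he.resolve_left hev
    have hnot : ¬ (Even n ∨ q % 4 = 1) := by
      rintro (h | h)
      · exact hev h
      · omega
    rw [cl, if_neg hnot] at ho
    have h1 := mm_mul hq hn
    rw [if_neg hnot] at h1
    have := Fact.mk hl
    have h2 : l ∣ q ^ n - 1 := by rw [← h1]; exact hd.mul_left _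
    have h3 : orderOf ((q : ℕ) : ZMod l) ∣ n := (Cfsg.Agent.Lib.Zsigmondy.dvd_pow_sub_one_iff (by omega) n).1 h2
    obtain ⟨k, hk⟩ := h3
    have hk2 : 2 ≤ k := by
      by_contra h
      have : k = 0 ∨ k = 1 := by omega
      rcases this with rfl | rfl
      · omega
      · exact ho (by omega)
    have h8 : 2 * orderOf ((q : ℕ) : ZMod l) ≤ n := by
      conv_rhs => rw [hk]
      rw [mul_comm 2]
      exact Nat.mul_le_mul_left _ hk2
    have hpos : 0 < orderOf ((q : ℕ) : ZMod l) := by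
      rcases Nat.eq_zero_or_pos (orderOf ((q : ℕ) : ZMod l)) with h | h
      · rw [h, zero_mul] at hk; omega
      · exact h
    have h9 : orderOf ((q ^ 2 : ℕ) : ZMod l) ≤ orderOf ((q : ℕ) : ZMod l) := by
      rw [Nat.cast_pow]
      exact Nat.le_of_dvd hpos (orderOf_pow_dvd 2)
    omega

theorem order_one_three : orderOf ((2 ^ 2 : ℕ) : ZMod 3) = 1 := by
  rw [orderOf_eq_one_iff]; rfl

theorem order_one_two : orderOf ((3 ^ 2 : ℕ) : ZMod 2) = 1 := by
  rw [orderOf_eq_one_iff]; rfl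

/-! ### consequences of `Dat` -/

variable {n p f M κ : ℕ} {Γ : Type u} [Group Γ] {S : Subgroup Γ}

theorem Dat.q_ge (h : Dat n p f M κ Γ S) : 2 ≤ p ^ f := h.hY.q_ge

/-- a prime not dividing `κ` -/
theorem Dat.not_dvd (h : Dat n p f M κ Γ S) {l : ℕ} (hl : l.Prime) (hlp : l ≠ p)
    (h2 : ¬ (5 ≤ n ∧ p ^ f = 2 ∧ l = 3)) (h3 : ¬ (5 ≤ n ∧ p ^ f = 3 ∧ l = 2))
    (h4 : ¬ (6 ≤ n ∧ (Even n ∨ p ^ f ≤ 3) ∧ l ∣ mm n (p ^ f) ∧ orderOf ((p ^ f : ℕ) : ZMod l) ≠ cl n (p ^ f))) :
    ¬ l ∣ κ := fun hd => by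
  rcases h.kap l hl hd with h5 | h5 | h5 | h5
  · exact hlp h5
  · exact h2 h5
  · exact h3 h5
  · exact h4 h5

/-- **large primes do not divide `κ`** -/
theorem Dat.not_dvd_large (h : Dat n p f M κ Γ S) {l : ℕ} (hl : l.Prime) (hlp : l ≠ p)
    (ho : n / 2 < orderOf (((p ^ f) ^ 2 : ℕ) : ZMod l)) : ¬ l ∣ κ := by
  have hn := h.hn
  apply h.not_dvd hl hlp
  · rintro ⟨h5, h6, rfl⟩
    rw [h6, order_one_three] at ho
    omega
  · rintro ⟨h5, h6, rfl⟩
    rw [h6, order_one_two] at ho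
    omega
  · rintro ⟨h5, h6, h7, h8⟩
    have := order_small' h.q_ge (by omega) h6 hl h7 h8
    omega

theorem fac_self {X : Sh} {v g MX : ℕ} (hX : Real X v g MX) : MX.factorization v = g * NN X := by
  have h1 := hX.P_self
  rw [P, ← pow_mul] at h1
  exact Nat.pow_right_injective hX.hp.two_le h1

variable [Finite Γ]

theorem Dat.card_eq (h : Dat n p f M κ Γ S) : κ * (Nat.card S * S.index) = M := by
  rw [Subgroup.card_mul_index, h.card]

theorem Dat.kap_ne (h : Dat n p f M κ Γ S) : κ ≠ 0 := by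
  rintro rfl
  have := h.card
  rw [zero_mul] at this
  exact h.hY.M_ne this.symm

theorem Dat.kap_dvd (h : Dat n p f M κ Γ S) : κ ∣ M := Dvd.intro _ h.card

/-- the order of `S` divides the order of `G` -/
theorem Dat.pi (h : Dat n p f M κ Γ S) : Nat.card S ∣ M := ⟨κ * S.index, by rw [← h.card_eq]; ring⟩

theorem Dat.index_ne (h : Dat n p f M κ Γ S) : S.index ≠ 0 := Subgroup.index_ne_zero_of_finite

theorem Dat.index_dvd (h : Dat n p f M κ Γ S) : S.index ∣ Nat.card (Cfsg.Out S) := by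
  have := h.normal
  have := h.simple
  exact index_dvd_out S h.nonab h.cent

/-- the parts for the primes not dividing `κ` -/
theorem Dat.P_eq (h : Dat n p f M κ Γ S) {l : ℕ} (hl : l.Prime) (hd : ¬ l ∣ κ) : P l M = P l (Nat.card S * S.index) := by
  rw [← h.card_eq, P_mul h.kap_ne (Nat.mul_ne_zero Nat.card_pos.ne' h.index_ne), P_eq_one hd, one_mul]

theorem Dat.fac_card (h : Dat n p f M κ Γ S) {j : ℕ} (hj : κ.factorization p = 2 * n * f * j) :
    (Nat.card S).factorization p + 2 * n * f * j + S.index.factorization p = f * n ^ 2 := by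
  have h1 : M.factorization p = f * NN (.C n) := fac_self h.hY
  rw [← h.card_eq, Nat.factorization_mul h.kap_ne (Nat.mul_ne_zero Nat.card_pos.ne' h.index_ne),
    Nat.factorization_mul Nat.card_pos.ne' h.index_ne, Finsupp.add_apply, Finsupp.add_apply, hj] at h1
  have h3 : NN (.C n) = n ^ 2 := rfl
  rw [h3] at h1
  omega

/-- **The divisibility satisfied by `S`.** -/
theorem Dat.fr (h : Dat n p f M κ Γ S) (h32 : ¬ (n = 3 ∧ p ^ f = 2)) : Fr n (p ^ f) S.index (Nat.card S) := by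
  obtain ⟨j, hj2, hj⟩ := h.kapp h32
  have hfac := h.fac_card hj
  have hn := h.hn
  have hp := h.hY.hp
  have hf := h.hY.hf
  have hq := h.q_ge
  intro t ht htr
  have hprime : ∀ r : ℕ, r.Prime → r ∣ t → r ≠ 2 ∧ r ≠ p ∧ ¬ r ∣ κ := by
    intro r hr hrt
    have h1 := htr r hr hrt
    have hr2 : r ≠ 2 := by
      rintro rfl
      have h2 : orderOf ((((p ^ f) ^ 2 : ℕ)) : ZMod 2) ≤ 1 := by
        have h3 : ∀ x : ZMod 2, orderOf (x ^ 2) ≤ 1 := by
          intro x
          fin_cases x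
          · show orderOf ((0 : ZMod 2) ^ 2) ≤ 1
            rw [zero_pow (by norm_num)]
            rw [orderOf_eq_zero_iff'.2]
            · omega
            · intro k hk
              rw [zero_pow (by omega)]
              exact zero_ne_one
          · show orderOf ((1 : ZMod 2) ^ 2) ≤ 1
            rw [one_pow, orderOf_one]
        rw [Nat.cast_pow]
        exact h3 _
      omega
    have hrp : r ≠ p := by
      rintro rfl
      have h2 : orderOf ((((r ^ f) ^ 2 : ℕ)) : ZMod r) = 0 := by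
        rw [orderOf_eq_zero_iff']
        intro k hk
        have := Fact.mk hr
        rw [Nat.cast_pow, Nat.cast_pow, ZMod.natCast_self, zero_pow (by omega), zero_pow (by norm_num),
          zero_pow (by omega)]
        exact zero_ne_one
      omega
    exact ⟨hr2, hrp, h.not_dvd_large hr hrp h1⟩
  have ht0 : t ≠ 0 := fun h0 => AA_ne (n := n) hq (by rw [h0] at ht; exact Nat.eq_zero_of_zero_dvd ht)
  have hcopK : Nat.Coprime t κ := by
    apply Nat.Coprime.symm
    apply Nat.coprime_of_dvd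
    intro r hr hrK hrt
    exact (hprime r hr hrt).2.2 hrK
  have hcopd : Nat.Coprime t (dd (.C n) (p ^ f)) := by
    apply Nat.Coprime.symm
    apply Nat.coprime_of_dvd
    intro r hr hrd hrt
    exact (hprime r hr hrt).1 ((Nat.prime_dvd_prime_iff_eq hr Nat.prime_two).1 (hrd.trans (Nat.gcd_dvd_left _ _)))
  have ht1 : t ∣ M := by
    have h1 : t ∣ dd (.C n) (p ^ f) * M := by
      rw [h.hY.eq]
      exact Dvd.dvd.mul_left ht _
    exact (hcopd).dvd_of_dvd_mul_left h1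
  have ht2 : t ∣ S.index * Nat.card S := by
    rw [← h.card_eq] at ht1
    have h1 : t ∣ κ * (S.index * Nat.card S) := by
      rw [mul_comm S.index]
      exact ht1
    exact hcopK.dvd_of_dvd_mul_left h1
  have hcopp : Nat.Coprime ((p ^ f) ^ cn n) t := by
    apply Nat.Coprime.pow_left
    apply Nat.Coprime.pow_left
    rw [Nat.Prime.coprime_iff_not_dvd hp]
    intro hpt
    exact (hprime p hp hpt).2.1 rfl
  refine hcopp.mul_dvd_of_dvd_of_dvd ?_ ht2
  rw [cn]
  split_ifs with hodd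
  · rw [← pow_mul]
    have hI0 : S.index ≠ 0 := Subgroup.index_ne_zero_of_finite
    have hS0 : Nat.card S ≠ 0 := Nat.card_pos.ne'
    rw [hp.pow_dvd_iff_le_factorization (Nat.mul_ne_zero hI0 hS0), Nat.factorization_mul hI0 hS0, Finsupp.add_apply]
    have h6 : 2 * j + 1 ≤ n := by omega
    have h7 : f * n * (2 * j + 1) ≤ f * n * n := Nat.mul_le_mul_left _ h6
    have h8 : f * n * (2 * j + 1) = 2 * n * f * j + f * n := by ring
    have h9 : f * n * n = f * n ^ 2 := by ring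
    omega
  · rw [pow_zero]; exact one_dvd _

/-- for `n ≤ 4` the number `κ` is a power of `q ^ (2 n)` -/
theorem Dat.kap_pow (h : Dat n p f M κ Γ S) (h4 : n ≤ 4) (h32 : ¬ (n = 3 ∧ p ^ f = 2)) :
    ∃ j, 2 * j ≤ n ∧ κ = (p ^ f) ^ (2 * n * j) := by
  obtain ⟨j, hj2, hj⟩ := h.kapp h32
  refine ⟨j, hj2, ?_⟩
  have hp := h.hY.hp
  have h1 : κ = p ^ κ.primeFactorsList.length := by
    apply Nat.eq_prime_pow_of_unique_prime_dvd h.kap_ne
    intro l hl hd
    rcases h.kap l hl hd with h5 | h5 | h5 | h5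
    · exact h5
    · omega
    · omega
    · omega
  generalize κ.primeFactorsList.length = e at h1
  have h2 : e = 2 * n * f * j := by
    rw [← hj, h1, Nat.factorization_pow, hp.factorization, Finsupp.smul_apply, Finsupp.single_eq_same, smul_eq_mul,
      mul_one]
  rw [h1, h2, ← pow_mul]
  congr 1
  ring

/-- for `n ≤ 4` the `p'`-part of the order divides the order of `Γ` -/
theorem Dat.AA_dvd (h : Dat n p f M κ Γ S) (h4 : n ≤ 4) (h32 : ¬ (n = 3 ∧ p ^ f = 2)) :
    AA n (p ^ f) ∣ Nat.gcd 2 (p ^ f - 1) * (Nat.card S * S.index) := by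
  obtain ⟨j, -, hj⟩ := h.kap_pow h4 h32
  have h1 := h.hY.eq
  have h2 : num (.C n) (p ^ f) = AA n (p ^ f) := rfl
  have h3 : dd (.C n) (p ^ f) = Nat.gcd 2 (p ^ f - 1) := rfl
  rw [h2, h3, ← h.card_eq, hj] at h1
  have hp := h.hY.hp
  have hcop : Nat.Coprime (AA n (p ^ f)) ((p ^ f) ^ (2 * n * j)) := by
    apply Nat.Coprime.pow_right
    apply Nat.Coprime.symm
    apply Nat.Coprime.pow_left
    rw [Nat.Prime.coprime_iff_not_dvd hp]
    intro hd
    exact not_dvd_of_AA h.q_ge hp hd (dvd_pow_self p (by have := h.hY.hf; omega))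
  apply hcop.dvd_of_dvd_mul_left
  rw [show (p ^ f) ^ (2 * n * j) * (Nat.gcd 2 (p ^ f - 1) * (Nat.card S * S.index)) =
    Nat.gcd 2 (p ^ f - 1) * ((p ^ f) ^ (2 * n * j) * (Nat.card S * S.index)) by ring, h1]
  exact Dvd.intro_left _ rfl

end Cfsg.Agent.H221.CS
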