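import Mathlib
import Cfsg.Agent.H221.CS.Basic
import Cfsg.Agent.H429.CS.KStep
import Cfsg.Agent.H402.CS.One
import Cfsg.Agent.H431.CS.Defs

/-!
# S3677, rows `PSp(2n, q)` and `PΩ(2n + 1, q)`: the kernel `K` (helper221)
-/

set_option autoImplicit false
set_option linter.unusedSectionVars false

namespace Cfsg.Agent.H221.CS

open Subgroup Cfsg Cfsg.Agent.H364 Cfsg.Agent.H902 Cfsg.Agent.H902.Art Cfsg.Agent.H902.Lte
open Cfsg.Agent.H364.SpVal Cfsg.Agent.H364.SpSmall Cfsg.Agent.H364.SpIneq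

universe u v

/-- perfect prime, `m` the order of the torus -/
structure Tor (G : Type u) [Group G] (p r m : ℕ) : Prop where
  hr : r.Prime
  dvd : r ∣ Nat.card G
  cent : ∀ y : G, r ∣ orderOf y → Nat.card (centralizer ({y} : Set G)) = m
  noEdge : NoEdge G r p
  min : ∀ g : G, r ∣ Nat.card (centralizer ({g} : Set G)) → Nat.card (centralizer ({g} : Set G)) ∣ m →
    Nat.card (centralizer ({g} : Set G)) = m
  pm : ¬ p ∣ m

theorem Tor.of_lat {G : Type u} [Group G] [Finite G] {L : Type v} [Group L] [Finite L] {p r m : ℕ}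
    (h : H431.CS.Lat L p r m) (hr : r.Prime) (hp : p.Prime) (hrp : r ≠ p) (hG : H431.CS.Same G L)
    (hpL : p ∣ Nat.card L) : Tor G p r m where
  hr := hr
  dvd := hG.card ▸ h.rS
  cent := fun _ hy => h.card_cent hr hp hrp hG hy
  noEdge := h.toLatW.noEdge hr hp hrp hG
  min := fun g h1 h2 => h.one _ (hG.mem g) (fun h3 => h.pm (hpL.trans (h3 ▸ h2))) h1 fun h3 => h.pm (h3.trans h2)
  pm := h.pm

variable {G : Type u} [Group G] [Finite G] {p r m : ℕ}

theorem Tor.perf (h : Tor G p r m) (hp : p.Prime) (hrp : r ≠ p) : H402.CS.One.Perf G r p m where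
  hs := h.hr
  hp := hp
  hsp := hrp
  sG := h.dvd
  na := h.noEdge
  cent := fun y hy => h.cent y (hy ▸ dvd_rfl)
  min := by
    rintro _ ⟨g, rfl⟩ h1 h2
    exact h.min g h1 h2

theorem Tor.pp (h : Tor G p r m) (hp : p.Prime) (hrp : r ≠ p) : H429.CS.PP G r m where
  prime := h.hr
  dvd := h.dvd
  cent := fun y hy => (h.cent y (hy ▸ dvd_rfl)).dvd
  nil := fun _ hy => (h.perf hp hrp).nilp hy

/-- the hypotheses on `G` -/
structure RowHyp (G : Type u) [Group G] (n p f : ℕ) : Prop where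
  hn : 3 ≤ n
  hY : Art.Real (.C n) p f (Nat.card G)
  top : ∀ r : ℕ, r.Prime → orderOf ((p ^ f : ℕ) : ZMod r) = 2 * n →
    Tor G p r (((p ^ f) ^ n + 1) / Nat.gcd 2 (p ^ f - 1))
  odd : Odd n → ∀ r : ℕ, r.Prime → orderOf ((p ^ f : ℕ) : ZMod r) = n →
    Tor G p r (((p ^ f) ^ n - 1) / Nat.gcd 2 (p ^ f - 1))
  ctr : ∀ l : ℕ, l.Prime → ∃ g : G, ¬ l ∣ Nat.card (centralizer ({g} : Set G))
  minc : ∀ x : G, (centralizer ({x} : Set G)).index ≠ 1 → ∀ l : ℕ, l.Prime → l ≠ p → ¬ (p ^ f = 2 ∧ l = 3) →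
    ¬ (p ^ f = 3 ∧ l = 2) → l ^ (Nat.card G).factorization l ≤ (centralizer ({x} : Set G)).index

variable {n f : ℕ}

theorem RowHyp.q_ge (h : RowHyp G n p f) : 2 ≤ p ^ f := h.hY.q_ge

/-- a prime of class `≥ 3` -/
theorem class_spec {q l k : ℕ} (hl : l.Prime) (hk : 3 ≤ k) (h : orderOf ((q : ℕ) : ZMod l) = k) : k < l ∧ ¬ l ∣ q := by
  have := Fact.mk hl
  have hq0 : (q : ZMod l) ≠ 0 := by
    intro h0
    rw [h0] at h
    have h1 : (0 : ZMod l) ^ k = 1 := by rw [← h]; exact pow_orderOf_eq_one _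
    rw [zero_pow (by omega)] at h1
    exact zero_ne_one h1
  constructor
  · have h1 : k ∣ l - 1 := by
      rw [← h]
      exact orderOf_dvd_of_pow_eq_one (ZMod.pow_card_sub_one_eq_one hq0)
    have := Nat.le_of_dvd (by have := hl.two_le; omega) h1
    have := hl.two_le
    omega
  · intro hd
    exact hq0 ((ZMod.natCast_eq_zero_iff q l).2 hd)

theorem ne_p_of_class {l k : ℕ} (hf : 1 ≤ f) (hl : l.Prime) (hk : 3 ≤ k)
    (h : orderOf ((p ^ f : ℕ) : ZMod l) = k) : l ≠ p := by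
  rintro rfl
  exact (class_spec hl hk h).2 (dvd_pow_self l (by omega))

theorem cl_ge {n q : ℕ} (hn : 3 ≤ n) : 3 ≤ cl n q := by
  rw [cl]; split_ifs <;> omega

theorem cl_cases (n q : ℕ) : (cl n q = 2 * n ∧ mm n q = (q ^ n + 1) / Nat.gcd 2 (q - 1)) ∨
    (Odd n ∧ cl n q = n ∧ mm n q = (q ^ n - 1) / Nat.gcd 2 (q - 1)) := by
  rw [cl, mm]
  split_ifs with h
  · exact Or.inl ⟨rfl, rfl⟩
  · rw [not_or] at h
    exact Or.inr ⟨Nat.not_even_iff_odd.1 h.1, rfl, rfl⟩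

/-- the chosen primes are perfect -/
theorem RowHyp.tor (h : RowHyp G n p f) {r : ℕ} (hr : r.Prime) (ho : orderOf ((p ^ f : ℕ) : ZMod r) = cl n (p ^ f)) :
    Tor G p r (mm n (p ^ f)) := by
  rcases cl_cases n (p ^ f) with ⟨h1, h2⟩ | ⟨h0, h1, h2⟩
  · rw [h2]; exact h.top r hr (ho.trans h1)
  · rw [h2]; exact h.odd h0 r hr (ho.trans h1)

/-- there is a chosen prime -/
theorem exists_cl {n q : ℕ} (hn : 3 ≤ n) (hq : 2 ≤ q) : ∃ r : ℕ, r.Prime ∧ orderOf ((q : ℕ) : ZMod r) = cl n q := by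
  have h3 := cl_ge (q := q) hn
  refine Cfsg.Agent.Lib.Zsigmondy.exists_prime_orderOf hq (show 2 ≤ cl n q by omega) (fun h => by omega) ?_
  rintro ⟨rfl, h6⟩
  rw [cl] at h6
  split_ifs at h6 with h7
  · have : n = 3 := by omega
    subst this
    rcases h7 with h7 | h7
    · exact absurd h7 (by decide)
    · norm_num at h7
  · subst h6
    exact h7 (Or.inl (by decide))

/-- **the center is trivial** -/
theorem RowHyp.eq_one (h : RowHyp G n p f) {x : G} (hx : (centralizer ({x} : Set G)).index = 1) : x = 1 := by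
  by_contra hne
  obtain ⟨l, hl, hld⟩ := Nat.exists_prime_and_dvd (fun h1 => hne (orderOf_eq_one_iff.1 h1))
  obtain ⟨g, hg⟩ := h.ctr l hl
  apply hg
  rw [Subgroup.index_eq_one] at hx
  have h1 : Commute g x := by
    have h2 : g ∈ centralizer ({x} : Set G) := by rw [hx]; trivial
    exact Subgroup.mem_centralizer_singleton_iff.1 h2
  have h2 : x ∈ centralizer ({g} : Set G) := Subgroup.mem_centralizer_singleton_iff.2 h1.symm.eq
  have h3 := orderOf_dvd_natCard (⟨x, h2⟩ : centralizer ({g} : Set G))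
  rw [Subgroup.orderOf_mk] at h3
  exact hld.trans h3

/-- `O_l(G) = 1` -/
theorem RowHyp.core_bot (h : RowHyp G n p f) {l : ℕ} (hl : l.Prime) (hlp : l ≠ p) (h2 : ¬ (p ^ f = 2 ∧ l = 3))
    (h3 : ¬ (p ^ f = 3 ∧ l = 2)) (N : Subgroup G) (hN : N.Normal) (hNl : IsPGroup l N) : N = ⊥ :=
  H429.CS.eq_bot_of_le (μ := l ^ (Nat.card G).factorization l) hl
    (fun x hx => h.minc x (fun h4 => hx (h.eq_one h4)) l hl hlp h2 h3) le_rfl N hN hNl

/-- the primes dividing `mm` are not exceptional -/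
theorem ne_three_of_mm {n l : ℕ} (hn : 3 ≤ n) (hl : l ∣ mm n 2) : l ≠ 3 := by
  rintro rfl
  have h1 := mm_mul (n := n) (q := 2) le_rfl (by omega)
  rw [show Nat.gcd 2 (2 - 1) = 1 from rfl, one_mul] at h1
  rw [h1] at hl
  have h3 : ∀ k, 4 ^ k % 3 = 1 := fun k => by rw [Nat.pow_mod]; simp
  rcases Nat.even_or_odd n with he | ho
  · rw [if_pos (Or.inl he)] at hl
    obtain ⟨k, hk⟩ := he
    rw [hk, ← two_mul, pow_mul] at hl
    have := h3 k
    norm_num at hl
    omega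
  · rw [if_neg (by rintro (h | h); exacts [Nat.not_even_iff_odd.2 ho h, by norm_num at h])] at hl
    obtain ⟨k, hk⟩ := ho
    rw [hk, pow_succ, pow_mul] at hl
    have := h3 k
    norm_num at hl
    omega

theorem RowHyp.core_bot_mm (h : RowHyp G n p f) {l : ℕ} (hl : l.Prime) (hlm : l ∣ mm n (p ^ f))
    (N : Subgroup G) (hN : N.Normal) (hNl : IsPGroup l N) : N = ⊥ := by
  have hn := h.hn
  have hq := h.q_ge
  have hlp : l ≠ p := by
    rintro rfl
    obtain ⟨r, hr, ho⟩ := exists_cl hn hq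
    exact (h.tor hr ho).pm hlm
  refine h.core_bot hl hlp ?_ ?_ N hN hNl
  · rintro ⟨h1, h2⟩
    rw [h1] at hlm
    exact ne_three_of_mm hn hlm h2
  · rintro ⟨h1, rfl⟩
    exact Nat.not_even_iff_odd.2 (mm_odd hq (by omega)) (even_iff_two_dvd.2 hlm)

end Cfsg.Agent.H221.CS
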