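import Mathlib
import Cfsg.Agent.H221.CS.Tor

/-!
# S3677, rows `PSp(2n, q)` and `PΩ(2n + 1, q)`: the order of the kernel `K` (helper221)
-/

set_option autoImplicit false
set_option linter.unusedSectionVars false

namespace Cfsg.Agent.H221.CS

open Subgroup Cfsg Cfsg.Agent.H364 Cfsg.Agent.H902 Cfsg.Agent.H902.Art Cfsg.Agent.H902.Lte
open Cfsg.Agent.H364.SpVal Cfsg.Agent.H364.SpSmall Cfsg.Agent.H364.SpIneq

universe u v

variable {G : Type u} [Group G] [Finite G] {n p f : ℕ}

/-- **The core.** -/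
theorem exists_K (G : Type u) [Group G] [Finite G] (P : ℕ → Prop) : ∃ (K : Subgroup G) (_ : K.Normal),
    (∀ r : ℕ, r.Prime → P r → ¬ r ∣ Nat.card K) ∧
    ∀ L : Subgroup (G ⧸ K), L.Normal → (∀ r : ℕ, r.Prime → P r → ¬ r ∣ Nat.card L) → L = ⊥ := by
  classical
  set R := ∏ r ∈ (Nat.card G).primeFactors.filter P, r with hR
  have key : ∀ x : ℕ, (∀ r : ℕ, r.Prime → P r → ¬ r ∣ x) → x.Coprime R := by
    intro x hx
    rw [hR]
    apply Nat.Coprime.prod_right
    intro r hr
    rw [Finset.mem_filter] at hr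
    have hrp := Nat.prime_of_mem_primeFactors hr.1
    exact Nat.Coprime.symm ((Nat.Prime.coprime_iff_not_dvd hrp).2 (hx r hrp hr.2))
  obtain ⟨K, hKn, hKc, hKm⟩ := Cfsg.Agent.H363.Master.exists_core G R
  refine ⟨K, hKn, ?_, ?_⟩
  · intro r hr hP hrK
    have h1 : r ∈ (Nat.card G).primeFactors.filter P := by
      rw [Finset.mem_filter]
      exact ⟨Nat.mem_primeFactors.2 ⟨hr, hrK.trans (Subgroup.card_subgroup_dvd_card K), Nat.card_pos.ne'⟩, hP⟩
    have h2 : r ∣ R := Finset.dvd_prod_of_mem _ h1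
    exact hr.one_lt.ne' (Nat.eq_one_of_dvd_coprimes hKc hrK h2)
  · intro L hL hLr
    exact Cfsg.Agent.H363.Master.core_quotient hKc hKm L hL (key _ hLr)

/-- a prime not dividing `m` does not divide `|K|` -/
theorem RowHyp.not_dvd_of (h : RowHyp G n p f) (hKn : H566.KnownAll.{u}) (K : Subgroup G) [K.Normal]
    (hKr : ∀ r : ℕ, r.Prime → orderOf ((p ^ f : ℕ) : ZMod r) = cl n (p ^ f) → ¬ r ∣ Nat.card K) {l : ℕ} (hl : l.Prime)
    (hlm : ¬ l ∣ mm n (p ^ f)) (hO : ∀ N : Subgroup G, N.Normal → IsPGroup l N → N = ⊥) : ¬ l ∣ Nat.card K := by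
  obtain ⟨r, hr, ho⟩ := exists_cl h.hn h.q_ge
  have hp := h.hY.hp
  have hrp := ne_p_of_class h.hY.hf hr (cl_ge h.hn) ho
  refine ((h.tor hr ho).pp hp hrp).not_dvd hKn K (hKr r hr ho) hl hlm ?_
  rintro l' hl' (h1 | rfl) N hN hNp
  · exact h.core_bot_mm hl' h1 N hN hNp
  · exact hO N hN hNp

/-- `O_l(G) = 1` by the action of an element of order `r` -/
theorem RowHyp.core_bot_ord (h : RowHyp G n p f) {r l : ℕ} (hr : r.Prime)
    (ho : orderOf ((p ^ f : ℕ) : ZMod r) = cl n (p ^ f)) (hl : l.Prime) (hlm : ¬ l ∣ mm n (p ^ f)) (hrl : r ≠ l)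
    (hex : ∀ a, 0 < a → l ^ a ∣ Nat.card G → ¬ r ∣ l ^ a - 1) (N : Subgroup G) (hN : N.Normal) (hNl : IsPGroup l N) :
    N = ⊥ := by
  have := Fact.mk hl
  obtain ⟨a, ha⟩ := IsPGroup.iff_card.1 hNl
  have hE : NoEdge G r l := by
    intro x hx
    have h1 : r ∣ orderOf x := by rw [hx]; exact dvd_mul_right r l
    have h2 := (h.tor hr ho).cent x h1
    apply hlm
    rw [← h2]
    have h3 := orderOf_dvd_natCard (⟨x, Subgroup.mem_centralizer_singleton_iff.2 rfl⟩ : centralizer ({x} : Set G))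
    rw [Subgroup.orderOf_mk, hx] at h3
    exact (dvd_mul_left l r).trans h3
  have hrN : ¬ r ∣ Nat.card N := by
    rw [ha]
    intro h1
    exact hrl ((Nat.prime_dvd_prime_iff_eq hr hl).1 (hr.dvd_of_dvd_pow h1))
  have h1 := congr_one N hr hl hrl hrN hE
  rw [ha, Nat.factorization_pow, hl.factorization, Finsupp.smul_apply, Finsupp.single_eq_same, smul_eq_mul, mul_one] at h1
  have h2 : r ∣ l ^ a - 1 :=
    (dvd_pow_self r (hr.factorization_pos_of_dvd Nat.card_pos.ne' (h.tor hr ho).dvd).ne').trans h1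
  rcases Nat.eq_zero_or_pos a with h3 | h3
  · rw [h3, pow_zero] at ha
    exact Subgroup.card_eq_one.1 ha
  · exact absurd h2 (hex a h3 (by rw [← ha]; exact Subgroup.card_subgroup_dvd_card N))

theorem two_of_dvd {q n l : ℕ} (hq : 1 ≤ q) (hl : l.Prime) (h1 : l ∣ q ^ n - 1) (h2 : l ∣ q ^ n + 1) : l = 2 := by
  have h3 : 1 ≤ q ^ n := Nat.one_le_pow _ _ hq
  have h4 : l ∣ 2 := by
    have e : q ^ n + 1 = (q ^ n - 1) + 2 := by omega
    rw [e] at h2
    exact (Nat.dvd_add_right h1).1 h2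
  exact (Nat.prime_dvd_prime_iff_eq hl Nat.prime_two).1 h4

theorem dvd_of_dvd_div {a d l : ℕ} (h : d ∣ a) (hl : l ∣ a / d) : l ∣ a := hl.trans (Nat.div_dvd_of_dvd h)

theorem two_dvd_pm {q n : ℕ} (hq : 2 ≤ q) : Nat.gcd 2 (q - 1) ∣ q ^ n + 1 ∧ Nat.gcd 2 (q - 1) ∣ q ^ n - 1 := by
  rcases Nat.even_or_odd q with hev | ho
  · have h5 : Nat.gcd 2 (q - 1) = 1 := by
      rw [← Nat.coprime_iff_gcd_eq_one, Nat.coprime_two_left]
      obtain ⟨c, hc⟩ := hev
      exact ⟨c - 1, by omega⟩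
    rw [h5]; exact ⟨one_dvd _, one_dvd _⟩
  · have h5 : Nat.gcd 2 (q - 1) = 2 := Nat.gcd_eq_left (by obtain ⟨c, hc⟩ := ho; exact ⟨c, by omega⟩)
    rw [h5]
    obtain ⟨c, hc⟩ := ho.pow (n := n)
    exact ⟨⟨c + 1, by omega⟩, ⟨c, by omega⟩⟩

/-- the argument with two perfect primes -/
theorem RowHyp.not_dvd_two (h : RowHyp G n p f) (hKn : H566.KnownAll.{u}) (K : Subgroup G) [K.Normal]
    (hKr : ∀ r : ℕ, r.Prime → orderOf ((p ^ f : ℕ) : ZMod r) = cl n (p ^ f) → ¬ r ∣ Nat.card K) (hodd : Odd n)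
    (hq4 : 4 ≤ p ^ f) {l : ℕ} (hl : l.Prime) (hlm : l ∣ mm n (p ^ f)) : ¬ l ∣ Nat.card K := by
  have hn := h.hn
  have hq := h.q_ge
  have hp := h.hY.hp
  have hl2 : l ≠ 2 := by
    rintro rfl
    exact Nat.not_even_iff_odd.2 (mm_odd hq (by omega)) (even_iff_two_dvd.2 hlm)
  have hd := two_dvd_pm (n := n) hq
  -- the other class
  have key : ∀ (c m' : ℕ), 3 ≤ c → (∀ r, r.Prime → orderOf ((p ^ f : ℕ) : ZMod r) = c → Tor G p r m') →
      (∀ r, r.Prime → orderOf ((p ^ f : ℕ) : ZMod r) = c → ¬ r ∣ mm n (p ^ f)) → ¬ l ∣ m' → ¬ l ∣ Nat.card K := by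
    intro c m' hc hT hm hlm'
    obtain ⟨r, hr, ho⟩ := Cfsg.Agent.Lib.Zsigmondy.exists_prime_orderOf hq (show 2 ≤ c by omega) (fun h => by omega)
      (by rintro ⟨h1, -⟩; omega)
    have hrp := ne_p_of_class h.hY.hf hr hc ho
    have hrK : ¬ r ∣ Nat.card K := by
      refine h.not_dvd_of hKn K hKr hr (hm r hr ho) fun N hN hNr => ?_
      exact h.core_bot hr hrp (by omega) (by omega) N hN hNr
    refine ((hT r hr ho).pp hp hrp).not_dvd hKn K hrK hl hlm' ?_
    rintro l' hl' h1 N hN hNl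
    refine h.core_bot hl' ?_ (by omega) (by omega) N hN hNl
    rcases h1 with h1 | rfl
    · rintro rfl
      exact (hT r hr ho).pm h1
    · rintro rfl
      obtain ⟨r0, hr0, ho0⟩ := exists_cl hn hq
      exact (h.tor hr0 ho0).pm hlm
  rcases cl_cases n (p ^ f) with ⟨h1, h2⟩ | ⟨-, h1, h2⟩
  · -- the class is `2n`
    rw [h2] at hlm
    refine key n _ hn (fun r hr ho => h.odd hodd r hr ho) ?_ ?_
    · intro r hr ho hrm
      rw [h2] at hrm
      have h3 := dvd_of_dvd_div hd.1 hrm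
      have h4 : r ∣ (p ^ f) ^ n - 1 := by
        rw [Cfsg.Agent.Lib.Zsigmondy.dvd_pow_sub_one_iff (by omega), ho]
      have h5 := two_of_dvd (by omega) hr h4 h3
      have h6 := (class_spec hr hn ho).1
      omega
    · intro h3
      exact hl2 (two_of_dvd (by omega) hl (dvd_of_dvd_div hd.2 h3) (dvd_of_dvd_div hd.1 hlm))
  · rw [h2] at hlm
    refine key (2 * n) _ (by omega) (fun r hr ho => h.top r hr ho) ?_ ?_
    · intro r hr ho hrm
      rw [h2] at hrm
      have h3 := dvd_of_dvd_div hd.2 hrm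
      rw [Cfsg.Agent.Lib.Zsigmondy.dvd_pow_sub_one_iff (by omega), ho] at h3
      have := Nat.le_of_dvd (by omega) h3
      omega
    · intro h3
      exact hl2 (two_of_dvd (by omega) hl (dvd_of_dvd_div hd.2 hlm) (dvd_of_dvd_div hd.1 h3))

theorem order_prime {n q l : ℕ} (hn : n.Prime) (hn3 : 3 ≤ n) (hq : 2 ≤ q) (hq3 : q ≤ 3) (hl : l.Prime)
    (hlm : l ∣ mm n q) : orderOf ((q : ℕ) : ZMod l) = cl n q := by
  have hodd : Odd n := hn.odd_of_ne_two (by omega)
  have hnot : ¬ (Even n ∨ q % 4 = 1) := by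
    rintro (h | h)
    · exact Nat.not_even_iff_odd.2 hodd h
    · omega
  have h1 := mm_mul (n := n) hq (by omega)
  rw [if_neg hnot] at h1
  rw [cl, if_neg hnot]
  have h2 : l ∣ q ^ n - 1 := by rw [← h1]; exact hlm.mul_left _
  have h3 := (Cfsg.Agent.Lib.Zsigmondy.dvd_pow_sub_one_iff (by omega) n).1 h2
  rcases (Nat.dvd_prime hn).1 h3 with h4 | h4
  · exfalso
    have h5 : l ∣ q ^ 1 - 1 := by
      rw [Cfsg.Agent.Lib.Zsigmondy.dvd_pow_sub_one_iff (by omega), h4]
    rw [pow_one] at h5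
    have h6 := Nat.le_of_dvd (by omega) h5
    have h7 : l = 2 := by have := hl.two_le; omega
    subst h7
    exact Nat.not_even_iff_odd.2 (mm_odd hq (by omega)) (even_iff_two_dvd.2 hlm)
  · exact h4

theorem order_four {q l : ℕ} (hq : 2 ≤ q) (hl : l.Prime) (hlm : l ∣ mm 4 q) : orderOf ((q : ℕ) : ZMod l) = cl 4 q := by
  have := Fact.mk hl
  have hc : cl 4 q = 8 := by rw [cl, if_pos (Or.inl (by decide))]
  rw [hc]
  have hodd : l ≠ 2 := by
    rintro rfl
    exact Nat.not_even_iff_odd.2 (mm_odd hq (by norm_num)) (even_iff_two_dvd.2 hlm)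
  have h1 : l ∣ q ^ 4 + 1 := hlm.trans (mm_dvd_even hq (by norm_num) (by decide))
  have h2 : ¬ l ∣ q ^ 4 - 1 := fun h => hodd (two_of_dvd (by omega) hl h h1)
  have h3 : l ∣ q ^ 8 - 1 := by
    have e : q ^ 8 - 1 = (q ^ 4 - 1) * (q ^ 4 + 1) := by
      obtain ⟨b, hb⟩ := Nat.exists_eq_add_of_le' (Nat.one_le_pow 4 q (by omega))
      rw [show q ^ 8 = (q ^ 4) ^ 2 by ring, hb, Nat.add_sub_cancel]
      have : (b + 1) ^ 2 = b * (b + 1 + 1) + 1 := by ring
      rw [this, Nat.add_sub_cancel]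
    rw [e]
    exact h1.mul_left _
  rw [Cfsg.Agent.Lib.Zsigmondy.dvd_pow_sub_one_iff (by omega)] at h2 h3
  have h4 : orderOf ((q : ℕ) : ZMod l) ∣ 2 ^ 3 := h3
  obtain ⟨k, hk, h5⟩ := (Nat.dvd_prime_pow Nat.prime_two).1 h4
  rw [h5] at h2 ⊢
  interval_cases k
  · exact absurd (by norm_num) h2
  · exact absurd (by norm_num) h2
  · exact absurd (by norm_num) h2
  · norm_num

/-- the order of `G` -/
theorem RowHyp.card_val (h : RowHyp G n p f) :
    Nat.gcd 2 (p ^ f - 1) * Nat.card G = (p ^ f) ^ n ^ 2 * AA n (p ^ f) := h.hY.eq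

/-- the exceptional primes for `n ≤ 4` -/
theorem RowHyp.core_bot_exc (h : RowHyp G n p f) (h4 : n ≤ 4) {l : ℕ} (hl : (p ^ f = 2 ∧ l = 3) ∨ (p ^ f = 3 ∧ l = 2))
    (hlm : ¬ l ∣ mm n (p ^ f)) (N : Subgroup G) (hN : N.Normal) (hNl : IsPGroup l N) : N = ⊥ := by
  have hn := h.hn
  have hv := h.card_val
  have hn' : n = 3 ∨ n = 4 := by omega
  rcases hl with ⟨hq, rfl⟩ | ⟨hq, rfl⟩
  · rw [hq] at hv
    rcases hn' with rfl | rfl
    · have hc : Nat.card G = 1451520 := by
        have e1 : Nat.gcd 2 (2 - 1) = 1 := rfl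
        have e2 : 2 ^ 3 ^ 2 * AA 3 2 = 1451520 := by decide
        rw [e1, e2, one_mul] at hv
        exact hv
      refine h.core_bot_ord (r := 7) (by norm_num) ?_ (by norm_num) hlm (by norm_num) ?_ N hN hNl
      · rw [hq]
        exact (orderOf_eq_iff (by decide)).2 ⟨by decide, fun m h1 h2 => by
          have h3 : cl 3 2 = 3 := by decide
          rw [h3] at h1
          interval_cases m <;> decide⟩
      · intro a ha hd
        rw [hc] at hd
        have h5 : a < 5 := by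
          by_contra hcon
          have := (pow_dvd_pow 3 (show 5 ≤ a by omega)).trans hd
          norm_num at this
        interval_cases a <;> decide
    · have hc : Nat.card G = 47377612800 := by
        have e1 : Nat.gcd 2 (2 - 1) = 1 := rfl
        have e2 : 2 ^ 4 ^ 2 * AA 4 2 = 47377612800 := by decide
        rw [e1, e2, one_mul] at hv
        exact hv
      refine h.core_bot_ord (r := 17) (by norm_num) ?_ (by norm_num) hlm (by norm_num) ?_ N hN hNl
      · rw [hq]
        exact (orderOf_eq_iff (by decide)).2 ⟨by decide, fun m h1 h2 => by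
          have h3 : cl 4 2 = 8 := by decide
          rw [h3] at h1
          interval_cases m <;> decide⟩
      · intro a ha hd
        rw [hc] at hd
        have h5 : a < 6 := by
          by_contra hcon
          have := (pow_dvd_pow 3 (show 6 ≤ a by omega)).trans hd
          norm_num at this
        interval_cases a <;> decide
  · rw [hq] at hv
    rcases hn' with rfl | rfl
    · have hc : Nat.card G = 4585351680 := by
        have e1 : Nat.gcd 2 (3 - 1) = 2 := rfl
        have e2 : 3 ^ 3 ^ 2 * AA 3 3 = 2 * 4585351680 := by decide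
        rw [e1, e2] at hv
        exact Nat.eq_of_mul_eq_mul_left (by norm_num) hv
      refine h.core_bot_ord (r := 13) (by norm_num) ?_ (by norm_num) hlm (by norm_num) ?_ N hN hNl
      · rw [hq]
        exact (orderOf_eq_iff (by decide)).2 ⟨by decide, fun m h1 h2 => by
          have h3 : cl 3 3 = 3 := by decide
          rw [h3] at h1
          interval_cases m <;> decide⟩
      · intro a ha hd
        rw [hc] at hd
        have h5 : a < 10 := by
          by_contra hcon
          have := (pow_dvd_pow 2 (show 10 ≤ a by omega)).trans hd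
          norm_num at this
        interval_cases a <;> decide
    · have hc : Nat.card G = 65784756654489600 := by
        have e1 : Nat.gcd 2 (3 - 1) = 2 := rfl
        have e2 : 3 ^ 4 ^ 2 * AA 4 3 = 2 * 65784756654489600 := by decide
        rw [e1, e2] at hv
        exact Nat.eq_of_mul_eq_mul_left (by norm_num) hv
      refine h.core_bot_ord (r := 41) (by norm_num) ?_ (by norm_num) hlm (by norm_num) ?_ N hN hNl
      · rw [hq]
        exact (orderOf_eq_iff (by decide)).2 ⟨by decide, fun m h1 h2 => by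
          have h3 : cl 4 3 = 8 := by decide
          rw [h3] at h1
          interval_cases m <;> decide⟩
      · intro a ha hd
        rw [hc] at hd
        have h5 : a < 15 := by
          by_contra hcon
          have := (pow_dvd_pow 2 (show 15 ≤ a by omega)).trans hd
          norm_num at this
        interval_cases a <;> decide

/-- **The primes dividing `|K|`.** -/
theorem RowHyp.kap (h : RowHyp G n p f) (hKn : H566.KnownAll.{u}) (K : Subgroup G) [K.Normal]
    (hKr : ∀ r : ℕ, r.Prime → orderOf ((p ^ f : ℕ) : ZMod r) = cl n (p ^ f) → ¬ r ∣ Nat.card K) (l : ℕ) (hl : l.Prime)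
    (hlK : l ∣ Nat.card K) : l = p ∨ (5 ≤ n ∧ p ^ f = 2 ∧ l = 3) ∨ (5 ≤ n ∧ p ^ f = 3 ∧ l = 2) ∨
    (6 ≤ n ∧ (Even n ∨ p ^ f ≤ 3) ∧ l ∣ mm n (p ^ f) ∧ orderOf ((p ^ f : ℕ) : ZMod l) ≠ cl n (p ^ f)) := by
  have hn := h.hn
  have hq := h.q_ge
  by_contra hcon
  rw [not_or, not_or, not_or] at hcon
  obtain ⟨hlp, h2, h3, h4⟩ := hcon
  by_cases hlm : l ∣ mm n (p ^ f)
  · have hcl : orderOf ((p ^ f : ℕ) : ZMod l) ≠ cl n (p ^ f) := fun h5 => hKr l hl h5 hlK
    rcases Nat.even_or_odd n with he | ho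
    · have h6 : n < 6 := by
        by_contra h6
        exact h4 ⟨by omega, Or.inl he, hlm, hcl⟩
      have h7 : n = 4 := by
        obtain ⟨j, hj⟩ := he; omega
      subst h7
      exact hcl (order_four hq hl hlm)
    · by_cases hq4 : 4 ≤ p ^ f
      · exact h.not_dvd_two hKn K hKr ho hq4 hl hlm hlK
      · have h6 : n < 6 := by
          by_contra h6
          exact h4 ⟨by omega, Or.inr (by omega), hlm, hcl⟩
        have h7 : n = 3 ∨ n = 5 := by
          obtain ⟨j, hj⟩ := ho; omega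
        have h8 : n.Prime := by rcases h7 with rfl | rfl <;> norm_num
        exact hcl (order_prime h8 hn hq (by omega) hl hlm)
  · refine h.not_dvd_of hKn K hKr hl hlm ?_ hlK
    by_cases hex : (p ^ f = 2 ∧ l = 3) ∨ (p ^ f = 3 ∧ l = 2)
    · have h5 : n ≤ 4 := by
        by_contra h5
        rcases hex with h6 | h6
        · exact h2 ⟨by omega, h6.1, h6.2⟩
        · exact h3 ⟨by omega, h6.1, h6.2⟩
      exact h.core_bot_exc h5 hex hlm
    · rw [not_or] at hex
      exact h.core_bot hl hlp hex.1 hex.2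

/-- **The `p`-part of `|K|`.** -/
theorem RowHyp.kapp (h : RowHyp G n p f) (hKn : H566.KnownAll.{u}) (K : Subgroup G) [K.Normal]
    (hKr : ∀ r : ℕ, r.Prime → orderOf ((p ^ f : ℕ) : ZMod r) = cl n (p ^ f) → ¬ r ∣ Nat.card K)
    (h32 : ¬ (n = 3 ∧ p ^ f = 2)) : ∃ j, 2 * j ≤ n ∧ (Nat.card K).factorization p = 2 * n * f * j := by
  have hn := h.hn
  have hq := h.q_ge
  have hp := h.hY.hp
  have hf := h.hY.hf
  have hfk : 2 * n ≤ f * (2 * n) := Nat.le_mul_of_pos_left _ hf
  obtain ⟨r, hr, hro⟩ := Cfsg.Agent.Lib.Zsigmondy.exists_prime_orderOf hp.two_le (show 2 ≤ f * (2 * n) by omega)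
    (fun h => by omega) (by
      rintro ⟨rfl, h6⟩
      have h7 : n = 3 := by omega
      subst h7
      have h8 : f = 1 := by omega
      subst h8
      exact h32 ⟨rfl, by norm_num⟩)
  have hee : orderOf ((p ^ f : ℕ) : ZMod r) = 2 * n := by
    rw [Nat.cast_pow, orderOf_pow' _ (by omega), hro, Nat.gcd_eq_right (dvd_mul_right f _),
      Nat.mul_div_cancel_left _ hf]
  have hrp := ne_p_of_class hf hr (show 3 ≤ 2 * n by omega) hee
  have hspec := class_spec hr (show 3 ≤ 2 * n by omega) hee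
  have hT := h.top r hr hee
  have hrK : ¬ r ∣ Nat.card K := by
    intro hd
    rcases h.kap hKn K hKr r hr hd with h1 | h1 | h1 | h1
    · exact hrp h1
    · omega
    · omega
    · obtain ⟨h6, h7, h8, h9⟩ := h1
      rcases h7 with h7 | h7
      · apply h9
        rw [hee, cl, if_pos (Or.inl h7)]
      · rcases Nat.even_or_odd n with he | ho
        · apply h9
          rw [hee, cl, if_pos (Or.inl he)]
        · have hnot : ¬ (Even n ∨ (p ^ f) % 4 = 1) := by
            rintro (h | h)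
            · exact Nat.not_even_iff_odd.2 ho h
            · omega
          have h10 := mm_mul (n := n) hq (by omega)
          rw [if_neg hnot] at h10
          have h11 : r ∣ (p ^ f) ^ n - 1 := by rw [← h10]; exact h8.mul_left _
          rw [Cfsg.Agent.Lib.Zsigmondy.dvd_pow_sub_one_iff (by omega), hee] at h11
          have := Nat.le_of_dvd (by omega) h11
          omega
  have h1 := congr_one K hr hp hrp hrK hT.noEdge
  have h2 : r ∣ p ^ (Nat.card K).factorization p - 1 :=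
    (dvd_pow_self r (hr.factorization_pos_of_dvd Nat.card_pos.ne' hT.dvd).ne').trans h1
  rw [Cfsg.Agent.Lib.Zsigmondy.dvd_pow_sub_one_iff hp.one_le, hro] at h2
  obtain ⟨j, hj⟩ := h2
  refine ⟨j, ?_, by rw [hj]; ring⟩
  have h3 : (Nat.card K).factorization p ≤ (Nat.card G).factorization p :=
    (Nat.factorization_le_iff_dvd Nat.card_pos.ne' Nat.card_pos.ne').2 (Subgroup.card_subgroup_dvd_card K) p
  have h4 : (Nat.card G).factorization p = f * n ^ 2 := fac_self h.hY
  rw [h4, hj] at h3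
  by_contra hcon
  have h5 : f * n * (n + 1) ≤ f * n * (2 * j) := Nat.mul_le_mul_left _ (by omega)
  have h6 : f * (2 * n) * j = f * n * (2 * j) := by ring
  have h7 : f * n * (n + 1) = f * n ^ 2 + f * n := by ring
  have h8 : 0 < f * n := Nat.mul_pos hf (by omega)
  omega

/-- `PSp(6, 2)` -/
theorem RowHyp.kap32 (h : RowHyp G n p f) (hKn : H566.KnownAll.{u}) (K : Subgroup G) [K.Normal]
    (hKr : ∀ r : ℕ, r.Prime → orderOf ((p ^ f : ℕ) : ZMod r) = cl n (p ^ f) → ¬ r ∣ Nat.card K)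
    (h3 : n = 3) (h2 : p ^ f = 2) : ∃ j, Nat.card K = 8 ^ j := by
  subst h3
  have hp := h.hY.hp
  have hp2 : p = 2 := by
    have h1 : p ∣ 2 := by
      rw [← h2]
      exact dvd_pow_self p (by have := h.hY.hf; omega)
    exact (Nat.prime_dvd_prime_iff_eq hp Nat.prime_two).1 h1
  have h7 : orderOf ((p ^ f : ℕ) : ZMod 7) = cl 3 (p ^ f) := by
    rw [h2]
    exact (orderOf_eq_iff (by decide)).2 ⟨by decide, fun m h1 h2 => by
      have h3 : cl 3 2 = 3 := by decide
      rw [h3] at h1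
      interval_cases m <;> decide⟩
  have hT := h.tor (by norm_num) h7
  have h1 := congr_one K (r := 7) (by norm_num) hp (by rw [hp2]; norm_num) (hKr 7 (by norm_num) h7) hT.noEdge
  have h4 : 7 ∣ p ^ (Nat.card K).factorization p - 1 :=
    (dvd_pow_self 7 ((show Nat.Prime 7 by norm_num).factorization_pos_of_dvd Nat.card_pos.ne' hT.dvd).ne').trans h1
  have h5 : Nat.card K = p ^ (Nat.card K).primeFactorsList.length := by
    apply Nat.eq_prime_pow_of_unique_prime_dvd Nat.card_pos.ne'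
    intro l hl hd
    rcases h.kap hKn K hKr l hl hd with h5 | h5 | h5 | h5
    · exact h5
    · omega
    · omega
    · omega
  generalize (Nat.card K).primeFactorsList.length = e at h5
  have h6 : (Nat.card K).factorization p = e := by
    rw [h5, Nat.factorization_pow, hp.factorization, Finsupp.smul_apply, Finsupp.single_eq_same, smul_eq_mul, mul_one]
  rw [h6, hp2, Cfsg.Agent.Lib.Zsigmondy.dvd_pow_sub_one_iff (by norm_num)] at h4
  have h8 : orderOf ((2 : ℕ) : ZMod 7) = 3 :=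
    (orderOf_eq_iff (by norm_num)).2 ⟨by decide, fun m h1 h2 => by interval_cases m <;> decide⟩
  rw [h8] at h4
  obtain ⟨j, hj⟩ := h4
  exact ⟨j, by rw [h5, hp2, hj, pow_mul]; norm_num⟩

end Cfsg.Agent.H221.CS
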