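import Mathlib
import Cfsg.Agent.H221.CS.Kap

/-!
# S3677, rows `PSp(2n, q)` and `PΩ(2n + 1, q)`: no abelian minimal normal subgroups (helper221)
-/

set_option autoImplicit false
set_option linter.unusedSectionVars false

namespace Cfsg.Agent.H221.CS

open Subgroup Cfsg Cfsg.Agent.H364 Cfsg.Agent.H902 Cfsg.Agent.H902.Art Cfsg.Agent.H902.Lte
open Cfsg.Agent.H364.SpVal Cfsg.Agent.H364.SpSmall Cfsg.Agent.H364.SpIneq

universe u v

/-- parts -/
theorem big_dvd {M κ γ N D : ℕ} (hM : κ * γ = M) (hM0 : M ≠ 0) (hN : 2 ≤ N) {Q : ℕ → Prop} (hDM : D ∣ M)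
    (hD : ∀ l : ℕ, l.Prime → l ∣ D → Q l ∧ ¬ l ∣ κ)
    (hl : ∀ l : ℕ, l.Prime → Q l → l ^ γ.factorization l ∣ N - 1) : D ≤ N - 1 := by
  have hD0 : D ≠ 0 := fun h => hM0 (Nat.eq_zero_of_zero_dvd (h ▸ hDM))
  have hκ0 : κ ≠ 0 := by rintro rfl; rw [zero_mul] at hM; exact hM0 hM.symm
  have hγ0 : γ ≠ 0 := by rintro rfl; rw [mul_zero] at hM; exact hM0 hM.symm
  refine Nat.le_of_dvd (by omega) ?_
  rw [← Nat.factorization_prime_le_iff_dvd hD0 (by omega)]
  intro l hlp
  by_cases h1 : l ∣ D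
  · obtain ⟨h2, h3⟩ := hD l hlp h1
    have h4 := hl l hlp h2
    rw [hlp.pow_dvd_iff_le_factorization (by omega)] at h4
    have h5 := (Nat.factorization_prime_le_iff_dvd hD0 hM0).2 hDM l hlp
    rw [← hM, Nat.factorization_mul hκ0 hγ0, Finsupp.add_apply, Nat.factorization_eq_zero_of_not_dvd h3, zero_add] at h5
    exact h5.trans h4
  · rw [Nat.factorization_eq_zero_of_not_dvd h1]
    exact Nat.zero_le _

theorem dvd_AA_one {n q i : ℕ} (hi : 1 ≤ i) (hin : i ≤ n) : q ^ (2 * i) - 1 ∣ AA n q := by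
  rw [AA]
  have := Finset.dvd_prod_of_mem (fun i => q ^ (2 * (i + 1)) - 1) (show i - 1 ∈ Finset.range n by
    rw [Finset.mem_range]; omega)
  simpa only [Nat.sub_add_cancel hi] using this

theorem dvd_AA_two {n q i j : ℕ} (hi : 1 ≤ i) (hij : i < j) (hjn : j ≤ n) :
    (q ^ (2 * i) - 1) * (q ^ (2 * j) - 1) ∣ AA n q := by
  rw [AA]
  have h1 : ({i - 1, j - 1} : Finset ℕ) ⊆ Finset.range n := by
    intro x hx
    rw [Finset.mem_insert, Finset.mem_singleton] at hx
    rw [Finset.mem_range]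
    omega
  have h2 := Finset.prod_dvd_prod_of_subset _ _ (fun i => q ^ (2 * (i + 1)) - 1) h1
  rw [Finset.prod_pair (by omega)] at h2
  simpa only [Nat.sub_add_cancel hi, Nat.sub_add_cancel (show 1 ≤ j by omega)] using h2

theorem gcd_dvd_sq {q : ℕ} (hq : 2 ≤ q) : Nat.gcd 2 (q - 1) ∣ q ^ 2 - 1 := by
  have h1 : q ^ 2 - 1 = (q - 1) * (q + 1) := by
    obtain ⟨a, rfl⟩ := Nat.exists_eq_add_of_le' (show 1 ≤ q by omega)
    rw [Nat.add_sub_cancel]
    have : (a + 1) ^ 2 = a * (a + 1 + 1) + 1 := by ring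
    rw [this, Nat.add_sub_cancel]
  rw [h1]
  exact (Nat.gcd_dvd_right _ _).mul_right _

/-- a prime dividing `mm n q`, `n` even: `q ^ n = - 1`, and `2 ≠ 0` -/
theorem mm_even_spec {n q l : ℕ} (hq : 2 ≤ q) (hn : 1 ≤ n) (he : Even n) (hl : l.Prime) (hd : l ∣ mm n q) :
    ((q : ℕ) : ZMod l) ^ n = -1 ∧ ((q : ℕ) : ZMod l) ^ n ≠ 1 := by
  have := Fact.mk hl
  have hodd : l ≠ 2 := by
    rintro rfl
    exact Nat.not_even_iff_odd.2 (mm_odd hq hn) (even_iff_two_dvd.2 hd)
  have h1 : ((q ^ n + 1 : ℕ) : ZMod l) = 0 := (ZMod.natCast_eq_zero_iff _ _).2 (hd.trans (mm_dvd_even hq hn he))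
  have h2 : ((q : ℕ) : ZMod l) ^ n = -1 := by
    push_cast at h1
    exact eq_neg_of_add_eq_zero_left h1
  refine ⟨h2, ?_⟩
  rw [h2]
  intro h4
  have h5 : ((2 : ℕ) : ZMod l) = 0 := by
    push_cast
    have : (1 : ZMod l) + 1 = 0 := by
      nth_rewrite 1 [← h4]
      ring
    rw [← this]; norm_num
  rw [ZMod.natCast_eq_zero_iff] at h5
  exact hodd ((Nat.prime_dvd_prime_iff_eq hl Nat.prime_two).1 h5)

/-- a prime modulo which `q` has odd order does not divide `mm` -/
theorem not_dvd_mm_of_odd {n q l k : ℕ} (hq : 2 ≤ q) (hn : 1 ≤ n) (he : Even n) (hl : l.Prime) (hk : Odd k)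
    (h : l ∣ q ^ k - 1) : ¬ l ∣ mm n q := by
  intro hd
  obtain ⟨h1, h2⟩ := mm_even_spec hq hn he hl hd
  apply h2
  rw [Cfsg.Agent.Lib.Zsigmondy.dvd_pow_sub_one_iff (by omega)] at h
  have h3 : Odd (orderOf ((q : ℕ) : ZMod l)) := by
    obtain ⟨c, rfl⟩ := h
    exact (Nat.odd_mul.1 hk).1
  have h4 : orderOf ((q : ℕ) : ZMod l) ∣ 2 * n := by
    apply orderOf_dvd_of_pow_eq_one
    rw [mul_comm, pow_mul, h1]; norm_num
  exact orderOf_dvd_iff_pow_eq_one.1 (Nat.Coprime.dvd_of_dvd_mul_left (Nat.coprime_two_right.2 h3) h4)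

/-- primes of class dividing `2 (n - 1)` -/
theorem not_dvd_mm_pred {n q l : ℕ} (hq : 2 ≤ q) (hn : 2 ≤ n) (he : Even n) (hl : l.Prime)
    (h : l ∣ q ^ (2 * (n - 1)) - 1) : ¬ l ∣ mm n q := by
  intro hd
  obtain ⟨h1, h2⟩ := mm_even_spec hq (by omega) he hl hd
  apply h2
  rw [Cfsg.Agent.Lib.Zsigmondy.dvd_pow_sub_one_iff (by omega)] at h
  have h4 : orderOf ((q : ℕ) : ZMod l) ∣ 2 * n := by
    apply orderOf_dvd_of_pow_eq_one
    rw [mul_comm, pow_mul, h1]; norm_num
  have h5 : orderOf ((q : ℕ) : ZMod l) ∣ 2 := by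
    have h6 := Nat.dvd_sub h4 h
    have e : 2 * n - 2 * (n - 1) = 2 := by omega
    rwa [e] at h6
  exact orderOf_dvd_iff_pow_eq_one.1 (h5.trans he.two_dvd)

/-- `Σ q ^ (2 i)`, `i < n - 1` -/
def DD (n q : ℕ) : ℕ := ∑ i ∈ Finset.range (n - 1), (q ^ 2) ^ i

theorem DD_mul {n q : ℕ} (hq : 2 ≤ q) (hn : 2 ≤ n) : DD n q * (q ^ 2 - 1) = q ^ (2 * (n - 1)) - 1 := by
  have h1 : 1 ≤ q ^ 2 := Nat.one_le_pow _ _ (by omega)
  have h2 := Nat.geomSum_eq (m := q ^ 2) (by nlinarith) (n - 1)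
  rw [DD, h2, pow_mul]
  apply Nat.div_mul_cancel
  have := Nat.sub_dvd_pow_sub_pow (q ^ 2) 1 (n - 1)
  rwa [one_pow] at this

theorem DD_gt {n q : ℕ} (hq : 2 ≤ q) (hn : 4 ≤ n) : q ^ n < DD n q := by
  rw [DD]
  have h1 : ({0, n - 2} : Finset ℕ) ⊆ Finset.range (n - 1) := by
    intro x hx
    rw [Finset.mem_insert, Finset.mem_singleton] at hx
    rw [Finset.mem_range]
    omega
  have h2 := Finset.sum_le_sum_of_subset (f := fun i => (q ^ 2) ^ i) h1
  rw [Finset.sum_pair (by omega)] at h2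
  have h3 : q ^ n ≤ (q ^ 2) ^ (n - 2) := by
    rw [← pow_mul]
    exact Nat.pow_le_pow_right (by omega) (by omega)
  have h4 : (q ^ 2) ^ 0 = 1 := pow_zero _
  rw [h4] at h2
  omega

theorem DD_odd {n q : ℕ} (ho : Odd q) (hn : 2 ≤ n) (he : Even n) : Odd (DD n q) := by
  rw [DD, Finset.odd_sum_iff_odd_card_odd]
  have h1 : (Finset.range (n - 1)).filter (fun i => Odd ((q ^ 2) ^ i)) = Finset.range (n - 1) := by
    apply Finset.filter_true_of_mem
    intro i _
    exact (ho.pow).pow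
  rw [h1, Finset.card_range]
  obtain ⟨j, rfl⟩ := he
  exact ⟨j - 1, by omega⟩

variable {G : Type u} [Group G] [Finite G] {n p f : ℕ}

/-- **no abelian minimal normal subgroup** -/
theorem RowHyp.hab (h : RowHyp G n p f) (hKn : H566.KnownAll.{u}) (K : Subgroup G) [K.Normal]
    (hKr : ∀ r : ℕ, r.Prime → orderOf ((p ^ f : ℕ) : ZMod r) = cl n (p ^ f) → ¬ r ∣ Nat.card K) {N : ℕ} (hN : 2 ≤ N)
    (hNm : N ∣ mm n (p ^ f))
    (hl : ∀ l : ℕ, l.Prime → ¬ l ∣ mm n (p ^ f) → l ^ (Nat.card (G ⧸ K)).factorization l ∣ N - 1) : False := by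
  have hn := h.hn
  have hq := h.q_ge
  have hp := h.hY.hp
  have hf := h.hY.hf
  have hM0 : Nat.card G ≠ 0 := Nat.card_pos.ne'
  have hMK : Nat.card K * Nat.card (G ⧸ K) = Nat.card G := by
    rw [← Subgroup.index_eq_card, Subgroup.card_mul_index]
  have hNle : N ≤ mm n (p ^ f) := Nat.le_of_dvd (mm_pos hq (by omega)) hNm
  have hmm := mm_mul (n := n) hq (by omega)
  have hmmle := mm_le (n := n) hq (by omega)
  have hv := h.card_val
  have hpm : ¬ p ∣ mm n (p ^ f) := by
    obtain ⟨r, hr, ho⟩ := exists_cl hn hq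
    exact (h.tor hr ho).pm
  rcases Nat.even_or_odd n with he | ho
  · -- `n` even
    have key : ∀ D : ℕ, D ∣ Nat.card G → (∀ l : ℕ, l.Prime → l ∣ D → ¬ l ∣ mm n (p ^ f) ∧ l ≠ p ∧
        ¬ (5 ≤ n ∧ p ^ f = 2 ∧ l = 3) ∧ ¬ (5 ≤ n ∧ p ^ f = 3 ∧ l = 2)) → D ≤ N - 1 := by
      intro D hDM hD
      refine big_dvd (Q := fun l => ¬ l ∣ mm n (p ^ f)) hMK hM0 hN hDM (fun l hlp hd => ?_) hl
      obtain ⟨h1, h2, h3, h4⟩ := hD l hlp hd
      refine ⟨h1, fun h5 => ?_⟩
      rcases h.kap hKn K hKr l hlp h5 with h6 | h6 | h6 | h6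
      · exact h2 h6
      · exact h3 h6
      · exact h4 h6
      · exact h1 h6.2.2.1
    have hn4 : 4 ≤ n := by
      obtain ⟨j, hj⟩ := he; omega
    rcases Nat.lt_or_ge (p ^ f) 3 with hq3 | hq3
    · have hq2 : p ^ f = 2 := by omega
      have hg : Nat.gcd 2 (2 - 1) = 1 := rfl
      rw [hq2, hg, one_mul] at hv
      rcases Nat.lt_or_ge n 6 with h6 | h6
      · have hn4' : n = 4 := by
          obtain ⟨j, hj⟩ := he; omega
        subst hn4'
        have hm17 : mm 4 2 = 17 := by decide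
        have h1 := key 25 (by
          rw [hv]
          exact (show 25 ∣ AA 4 2 by decide).mul_left _) (by
          intro l hlp hd
          have h25 : l ∣ 5 ^ 2 := hd
          have h5 : l = 5 := (Nat.prime_dvd_prime_iff_eq hlp (by norm_num)).1 (hlp.dvd_of_dvd_pow h25)
          subst h5
          rw [hq2, hm17]
          refine ⟨by norm_num, ?_, by omega, by omega⟩
          rintro rfl
          have : (5 : ℕ) ^ 1 ≤ 5 ^ f := Nat.pow_le_pow_right (by norm_num) hf
          omega)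
        rw [hq2, hm17] at hNle
        omega
      · have hodd1 : Odd (n - 1) := by obtain ⟨j, hj⟩ := he; exact ⟨j - 1, by omega⟩
        have hodd3 : Odd (n - 3) := by obtain ⟨j, hj⟩ := he; exact ⟨j - 2, by omega⟩
        have hp2 : p = 2 := by
          have h1 : p ∣ 2 := by
            rw [← hq2]
            exact dvd_pow_self p (by omega)
          exact (Nat.prime_dvd_prime_iff_eq hp Nat.prime_two).1 h1
        have hfac : ∀ k, (2 : ℕ) ^ k - 1 ∣ 2 ^ (2 * k) - 1 := by
          intro k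
          have := Nat.sub_dvd_pow_sub_pow (2 ^ k) 1 2
          rw [one_pow, ← pow_mul, mul_comm k 2] at this
          exact this
        have h1 := key ((2 ^ (n - 3) - 1) * (2 ^ (n - 1) - 1)) (by
          rw [hv]
          refine Dvd.dvd.mul_left ?_ _
          exact (Nat.mul_dvd_mul (hfac _) (hfac _)).trans (dvd_AA_two (by omega) (by omega) (by omega))) (by
          intro l hlp hd
          have hk : ∃ k, Odd k ∧ l ∣ 2 ^ k - 1 := by
            rcases (hlp.dvd_mul).1 hd with h | h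
            · exact ⟨_, hodd3, h⟩
            · exact ⟨_, hodd1, h⟩
          obtain ⟨k, hko, hkd⟩ := hk
          rw [hq2]
          refine ⟨not_dvd_mm_of_odd le_rfl (by omega) he hlp hko hkd, ?_, ?_, by omega⟩
          · rw [hp2]
            rintro rfl
            have h5 : Even (2 ^ k) := even_two.pow_of_ne_zero (by obtain ⟨c, rfl⟩ := hko; omega)
            have h6 : 1 ≤ 2 ^ k := Nat.one_le_pow _ _ (by norm_num)
            obtain ⟨c, hc⟩ := h5
            obtain ⟨b, hb⟩ := hkd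
            omega
          · rintro ⟨-, -, rfl⟩
            obtain ⟨c, rfl⟩ := hko
            rw [pow_succ, pow_mul] at hkd
            have h3 : (2 ^ 2) ^ c % 3 = 1 := by rw [Nat.pow_mod]; simp
            have h6 : 1 ≤ (2 ^ 2) ^ c := Nat.one_le_pow _ _ (by norm_num)
            omega)
        rw [hq2] at hNle hmmle
        obtain ⟨a, ha⟩ : ∃ a, a = 2 ^ (n - 3) := ⟨_, rfl⟩
        have ha1 : 2 ^ (n - 1) = 4 * a := by
          rw [ha, show n - 1 = (n - 3) + 2 by omega, pow_add]; ring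
        have ha3 : 2 ^ n = 8 * a := by
          rw [ha]
          conv_lhs => rw [show n = (n - 3) + 3 by omega, pow_add]
          ring
        have ha8 : 8 ≤ a := by
          rw [ha]
          calc 8 = 2 ^ 3 := by norm_num
            _ ≤ 2 ^ (n - 3) := Nat.pow_le_pow_right (by norm_num) (by omega)
        rw [← ha, ha1] at h1
        rw [ha3] at hmmle
        obtain ⟨b, rfl⟩ := Nat.exists_eq_add_of_le' (show 1 ≤ a by omega)
        have e1 : b + 1 - 1 = b := rfl
        have e2 : 4 * (b + 1) - 1 = 4 * b + 3 := by omega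
        rw [e1, e2] at h1
        have h9 : b * (4 * b + 3) ≤ 8 * (b + 1) := by omega
        nlinarith
    · have h1 := key (DD n (p ^ f)) (by
        have h2 := DD_mul (n := n) hq (by omega)
        have h3 : DD n (p ^ f) * Nat.gcd 2 (p ^ f - 1) ∣ Nat.gcd 2 (p ^ f - 1) * Nat.card G := by
          rw [hv]
          refine Dvd.dvd.mul_left ?_ _
          refine (Nat.mul_dvd_mul_left _ (gcd_dvd_sq hq)).trans ?_
          rw [h2]
          exact dvd_AA_one (by omega) (by omega)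
        rw [mul_comm] at h3
        exact Nat.dvd_of_mul_dvd_mul_left (Nat.gcd_pos_of_pos_left _ (by norm_num)) h3) (by
        intro l hlp hd
        have h2 : l ∣ (p ^ f) ^ (2 * (n - 1)) - 1 := by
          rw [← DD_mul hq (by omega)]
          exact hd.mul_right _
        refine ⟨not_dvd_mm_pred hq (by omega) he hlp h2, ?_, by omega, ?_⟩
        · rintro rfl
          have h3 : l ∣ (l ^ f) ^ (2 * (n - 1)) := dvd_pow (dvd_pow_self l (by omega)) (by omega)
          have h4 : 1 ≤ (l ^ f) ^ (2 * (n - 1)) := Nat.one_le_pow _ _ (by omega)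
          have h5 : l ∣ 1 := by
            have := Nat.dvd_sub h3 h2
            rwa [Nat.sub_sub_self h4] at this
          exact hlp.one_lt.ne' (Nat.dvd_one.1 h5)
        · rintro ⟨-, h3, rfl⟩
          have h4 := DD_odd (n := n) (q := p ^ f) (by rw [h3]; decide) (by omega) he
          exact Nat.not_even_iff_odd.2 h4 (even_iff_two_dvd.2 hd))
      have h2 := DD_gt (n := n) hq hn4
      omega
  · -- `n` odd
    by_cases h32 : n = 3 ∧ p ^ f = 2
    · obtain ⟨rfl, hq2⟩ := h32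
      have hm7 : mm 3 2 = 7 := by decide
      rw [hq2, hm7] at hNm hNle
      have hN7 : N = 7 := by
        rcases (Nat.dvd_prime (by norm_num)).1 hNm with h1 | h1
        · omega
        · exact h1
      have h5 := hl 5 (by norm_num) (by rw [hq2, hm7]; norm_num)
      obtain ⟨j, hj⟩ := h.kap32 hKn K hKr rfl hq2
      have hg : Nat.gcd 2 (2 - 1) = 1 := rfl
      rw [hq2, hg, one_mul] at hv
      have h6 : 5 ∣ Nat.card (G ⧸ K) := by
        have h7 : 5 ∣ Nat.card K * Nat.card (G ⧸ K) := by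
          rw [hMK, hv]
          exact (show 5 ∣ AA 3 2 by decide).mul_left _
        rcases ((show Nat.Prime 5 by norm_num).dvd_mul).1 h7 with h8 | h8
        · rw [hj] at h8
          have := (show Nat.Prime 5 by norm_num).dvd_of_dvd_pow h8
          norm_num at this
        · exact h8
      have h7 := (show Nat.Prime 5 by norm_num).factorization_pos_of_dvd Nat.card_pos.ne' h6
      have h8 := (dvd_pow_self 5 h7.ne').trans h5
      rw [hN7] at h8
      norm_num at h8
    · obtain ⟨j, hj2, hj⟩ := h.kapp hKn K hKr h32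
      have h1 := hl p hp hpm
      have h2 : (Nat.card G).factorization p = f * n ^ 2 := fac_self h.hY
      rw [← hMK, Nat.factorization_mul Nat.card_pos.ne' Nat.card_pos.ne', Finsupp.add_apply, hj] at h2
      have h3 : f * n ≤ (Nat.card (G ⧸ K)).factorization p := by
        have h4 : 2 * j + 1 ≤ n := by
          obtain ⟨c, hc⟩ := ho; omega
        have h7 : f * n * (2 * j + 1) ≤ f * n * n := Nat.mul_le_mul_left _ h4
        have h8 : f * n * (2 * j + 1) = 2 * n * f * j + f * n := by ring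
        have h9 : f * n * n = f * n ^ 2 := by ring
        omega
      have h4 : (p ^ f) ^ n ≤ N - 1 := by
        refine Nat.le_of_dvd (by omega) (Dvd.dvd.trans ?_ h1)
        rw [← pow_mul]
        exact pow_dvd_pow _ h3
      by_cases hc : Even n ∨ (p ^ f) % 4 = 1
      · have h5 : Nat.gcd 2 (p ^ f - 1) = 2 := by
          apply Nat.gcd_eq_left
          rcases hc with hc | hc
          · exact absurd ho (Nat.not_odd_iff_even.2 hc)
          · omega
        rw [if_pos hc, h5] at hmm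
        have : 1 < (p ^ f) ^ n := Nat.one_lt_pow (by omega) (by omega)
        omega
      · rw [if_neg hc] at hmm
        have h5 : 0 < Nat.gcd 2 (p ^ f - 1) := Nat.gcd_pos_of_pos_left _ (by norm_num)
        have h6 := Nat.le_mul_of_pos_left (mm n (p ^ f)) h5
        omega

end Cfsg.Agent.H221.CS
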