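import Mathlib
import Cfsg.Agent.H363.Master
import Cfsg.Agent.H364.Core
import Cfsg.Agent.Lib.MinNormal
import Cfsg.Agent.S0205

/-!
# The socle of a group with small centralizers of odd order (helper221, S3677)
-/

set_option autoImplicit false
set_option linter.unusedSectionVars false

namespace Cfsg.Agent.H221.CS

open Subgroup Cfsg Cfsg.Agent.H364

universe u

variable {Γ : Type u} [Group Γ] [Finite Γ]

theorem card_dvd_cent {N : Subgroup Γ} {y : Γ} (h : ∀ x ∈ N, Commute x y) :
    Nat.card N ∣ Nat.card (centralizer ({y} : Set Γ)) :=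
  Subgroup.card_dvd_of_le fun x hx => Subgroup.mem_centralizer_singleton_iff.2 (h x hx).eq

theorem two_dvd_of_simple {T : Type u} [Group T] [Finite T] [IsSimpleGroup T] (h : ¬ ∀ a b : T, a * b = b * a) :
    2 ∣ Nat.card T := by
  by_contra h2
  have h3 : Group.IsSolvable T := Cfsg.Agent.S0205.result (Nat.not_even_iff_odd.1 fun h3 => h2 (even_iff_two_dvd.1 h3))
  exact h fun a b => (IsSimpleGroup.comm_iff_isSolvable.2 h3) a b

theorem prime_card_of_comm {T : Type u} [Group T] [Finite T] [IsSimpleGroup T] (h : ∀ a b : T, a * b = b * a) :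
    (Nat.card T).Prime := by
  let : CommGroup T := { (inferInstance : Group T) with mul_comm := h }
  exact IsSimpleGroup.prime_card

/-- **The socle.** -/
theorem exists_socle {P : ℕ → Prop} {m : ℕ} (hm : Odd m) (hex : ∃ r : ℕ, r.Prime ∧ P r ∧ r ∣ Nat.card Γ)
    (hcent : ∀ r : ℕ, r.Prime → P r → ∀ y : Γ, orderOf y = r → Nat.card (centralizer ({y} : Set Γ)) ∣ m)
    (hmin : ∀ L : Subgroup Γ, L.Normal → (∀ r : ℕ, r.Prime → P r → ¬ r ∣ Nat.card L) → L = ⊥)
    (hab : ∀ N : Subgroup Γ, N.Normal → ∀ r : ℕ, r.Prime → P r → ∀ a : ℕ, 0 < a → Nat.card N = r ^ a → Nat.card N ∣ m →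
      (∀ l : ℕ, l.Prime → ¬ l ∣ m → l ^ (Nat.card Γ).factorization l ∣ Nat.card N - 1) → False) :
    ∃ S : Subgroup Γ, S.Normal ∧ IsSimpleGroup S ∧ (¬ ∀ a b : S, a * b = b * a) ∧
      centralizer (S : Set Γ) = ⊥ ∧ ∃ r : ℕ, r.Prime ∧ P r ∧ r ∣ Nat.card S := by
  have hm2 : ¬ 2 ∣ m := fun h => Nat.not_even_iff_odd.2 hm (even_iff_two_dvd.2 h)
  obtain ⟨r0, hr0, hP0, hd0⟩ := hex
  have hnt : Nontrivial Γ := by
    rw [← Finite.one_lt_card_iff_nontrivial]
    exact lt_of_lt_of_le hr0.one_lt (Nat.le_of_dvd Nat.card_pos hd0)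
  have hrex : ∀ L : Subgroup Γ, L.Normal → L ≠ ⊥ → ∃ r : ℕ, r.Prime ∧ P r ∧ r ∣ Nat.card L := by
    intro L hL hne
    by_contra hcon
    apply hne
    apply hmin L hL
    intro r hr hP hd
    exact hcon ⟨r, hr, hP, hd⟩
  obtain ⟨N, hNn, hN, hNmin⟩ := H363.Master.exists_minimal_normal Γ
  obtain ⟨r, hr, hP, hrN⟩ := hrex N hNn hN
  have := Fact.mk hr
  obtain ⟨T, k, hTN, hT, hk, ⟨e⟩⟩ := Cfsg.Agent.Lib.MinNormal.exists_mulEquiv_pi N hN hNmin
  have hcard : Nat.card N = Nat.card T ^ k := by
    rw [Nat.card_congr e.toEquiv, Nat.card_fun]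
    simp
  have hrT : r ∣ Nat.card T := by
    rw [hcard] at hrN
    exact hr.dvd_of_dvd_pow hrN
  by_cases hcomm : ∀ a b : T, a * b = b * a
  · exfalso
    have hTr : Nat.card T = r := ((Nat.prime_dvd_prime_iff_eq hr (prime_card_of_comm hcomm)).1 hrT).symm
    have hNcomm : ∀ a b : N, a * b = b * a := by
      intro a b
      apply e.injective
      rw [map_mul, map_mul]
      funext i
      exact hcomm _ _
    obtain ⟨y, hy⟩ := exists_prime_orderOf_dvd_card' r hrN
    have hy' : orderOf (y : Γ) = r := by rw [Subgroup.orderOf_coe]; exact hy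
    have hNm : Nat.card N ∣ m := (card_dvd_cent (N := N) (y := (y : Γ)) fun x hx =>
      congrArg Subtype.val (hNcomm ⟨x, hx⟩ y)).trans (hcent r hr hP y hy')
    rw [hTr] at hcard
    refine hab N hNn r hr hP k hk hcard hNm ?_
    intro l hl hlm
    have hlr : l ≠ r := by
      rintro rfl
      exact hlm (hrN.trans hNm)
    have hE : NoEdge Γ l r := by
      intro z hz
      have h1 : orderOf (z ^ l) = r := by
        rw [orderOf_pow_of_dvd hl.ne_zero (by rw [hz]; exact dvd_mul_right l r), hz]
        exact Nat.mul_div_cancel_left _ hl.pos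
      apply hlm
      refine Dvd.dvd.trans ?_ (hcent r hr hP _ h1)
      have h2 : z ∈ centralizer ({z ^ l} : Set Γ) :=
        Subgroup.mem_centralizer_singleton_iff.2 ((Commute.refl z).pow_right l).eq
      have h3 := orderOf_dvd_natCard (⟨z, h2⟩ : centralizer ({z ^ l} : Set Γ))
      rw [Subgroup.orderOf_mk, hz] at h3
      exact (dvd_mul_right l r).trans h3
    have hlN : ¬ l ∣ Nat.card N := by
      rw [hcard]
      intro h1
      exact hlr ((Nat.prime_dvd_prime_iff_eq hl hr).1 (hl.dvd_of_dvd_pow h1))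
    have h1 := congr_one N hl hr hlr hlN hE
    have h2 : (Nat.card N).factorization r = k := by
      rw [hcard, Nat.factorization_pow, hr.factorization, Finsupp.smul_apply, Finsupp.single_eq_same, smul_eq_mul,
        mul_one]
    rwa [h2, ← hcard] at h1
  · have h2T := two_dvd_of_simple hcomm
    obtain ⟨a, ha⟩ := exists_prime_orderOf_dvd_card' r hrT
    have ho : ∀ (i : Fin k) (x : T), orderOf (e.symm (Pi.mulSingle i x)) = orderOf x := by
      intro i x
      rw [MulEquiv.orderOf_eq]
      exact orderOf_injective (MonoidHom.mulSingle (fun _ : Fin k => T) i)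
        (fun x y hxy => Pi.mulSingle_injective (M := fun _ : Fin k => T) i hxy) x
    have hk1 : k = 1 := by
      by_contra hk1
      have h01 : (⟨0, by omega⟩ : Fin k) ≠ ⟨1, by omega⟩ := by
        intro h; exact absurd (congrArg Fin.val h) (by norm_num)
      set y : N := e.symm (Pi.mulSingle ⟨0, by omega⟩ a) with hy
      have hyo : orderOf (y : Γ) = r := by rw [Subgroup.orderOf_coe, hy, ho, ha]
      apply hm2
      refine Dvd.dvd.trans ?_ (hcent r hr hP y hyo)
      refine h2T.trans ?_
      let F : T →* centralizer ({(y : Γ)} : Set Γ) :=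
        { toFun := fun x => ⟨(e.symm (Pi.mulSingle ⟨1, by omega⟩ x) : N), by
            rw [Subgroup.mem_centralizer_singleton_iff]
            have hc : Commute (e.symm (Pi.mulSingle ⟨1, by omega⟩ x)) y :=
              (Pi.mulSingle_commute (f := fun _ : Fin k => T) h01.symm x a).map e.symm
            exact congrArg Subtype.val hc.eq⟩
          map_one' := by
            apply Subtype.ext
            show ((e.symm (Pi.mulSingle _ 1) : N) : Γ) = 1
            rw [Pi.mulSingle_one, map_one, Subgroup.coe_one]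
          map_mul' := fun x y => by
            apply Subtype.ext
            show ((e.symm (Pi.mulSingle _ (x * y)) : N) : Γ) = _
            rw [Pi.mulSingle_mul, map_mul]
            rfl }
      have hF : Function.Injective F := by
        intro x x' hxx
        have h1 : (e.symm (Pi.mulSingle ⟨1, by omega⟩ x) : N) = e.symm (Pi.mulSingle ⟨1, by omega⟩ x') := by
          apply Subtype.ext
          exact congrArg (fun z : centralizer ({(y : Γ)} : Set Γ) => (z : Γ)) hxx
        exact Pi.mulSingle_injective (M := fun _ : Fin k => T) _ (e.symm.injective h1)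
      rw [Nat.card_congr (MonoidHom.ofInjective hF).toEquiv]
      exact Subgroup.card_subgroup_dvd_card _
    subst hk1
    have e' : N ≃* T := e.trans (MulEquiv.funUnique (Fin 1) T)
    have hNs : IsSimpleGroup N := e'.isSimpleGroup
    have hNna : ¬ ∀ a b : N, a * b = b * a := by
      intro h
      apply hcomm
      intro a b
      have := h (e'.symm a) (e'.symm b)
      rw [← map_mul, ← map_mul] at this
      exact e'.symm.injective this
    refine ⟨N, hNn, hNs, hNna, ?_, r, hr, hP, hrN⟩
    by_contra hC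
    obtain ⟨r', hr', hP', hd'⟩ := hrex (centralizer (N : Set Γ)) inferInstance hC
    have := Fact.mk hr'
    obtain ⟨c, hc⟩ := exists_prime_orderOf_dvd_card' r' hd'
    have hc' : orderOf (c : Γ) = r' := by rw [Subgroup.orderOf_coe]; exact hc
    apply hm2
    refine Dvd.dvd.trans ?_ (hcent r' hr' hP' c hc')
    refine (two_dvd_of_simple hNna).trans (card_dvd_cent (N := N) (y := (c : Γ)) fun x hx => ?_)
    exact (Subgroup.mem_centralizer_iff.1 c.2 x hx)

end Cfsg.Agent.H221.CS
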