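import Mathlib
import Cfsg.Agent.H221.CS.Hab
import Cfsg.Agent.H221.CS.Socle
import Cfsg.Agent.H166.CS.Fusion

/-!
# S3677, rows `PSp(2n, q)` and `PΩ(2n + 1, q)`: the data `Dat` (helper221)
-/

set_option autoImplicit false
set_option linter.unusedSectionVars false

namespace Cfsg.Agent.H221.CS

open Subgroup Cfsg Cfsg.Agent.H364 Cfsg.Agent.H902 Cfsg.Agent.H902.Art Cfsg.Agent.H902.Lte

universe u v

variable {G : Type u} [Group G] [Finite G] {n p f : ℕ}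

theorem two_n_lt {q r : ℕ} (hn : 3 ≤ n) (hr : r.Prime) (ho : orderOf ((q : ℕ) : ZMod r) = cl n q) : 2 * n < r := by
  have := Fact.mk hr
  obtain ⟨h1, h2⟩ := class_spec hr (cl_ge hn) ho
  rcases cl_cases n q with ⟨h3, -⟩ | ⟨h0, h3, -⟩
  · omega
  · rw [h3] at h1 ho
    have hq0 : (q : ZMod r) ≠ 0 := fun h => h2 ((ZMod.natCast_eq_zero_iff q r).1 h)
    have h4 : n ∣ r - 1 := by
      rw [← ho]
      exact orderOf_dvd_of_pow_eq_one (ZMod.pow_card_sub_one_eq_one hq0)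
    have h5 : 2 ∣ r - 1 := by
      obtain ⟨c, hc⟩ := hr.odd_of_ne_two (by omega)
      exact ⟨c, by omega⟩
    have h6 : 2 * n ∣ r - 1 := (Nat.coprime_two_left.2 h0).mul_dvd_of_dvd_of_dvd h5 h4
    have := Nat.le_of_dvd (by omega) h6
    omega

/-- **The data.** -/
theorem RowHyp.dat (h : RowHyp G n p f) (hKn : H566.KnownAll.{u}) :
    ∃ (K : Subgroup G) (_ : K.Normal) (S : Subgroup (G ⧸ K)), Dat n p f (Nat.card G) (Nat.card K) (G ⧸ K) S := by
  have hn := h.hn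
  have hq := h.q_ge
  obtain ⟨K, hKnor, hKr, hmin⟩ := exists_K G (fun r => orderOf ((p ^ f : ℕ) : ZMod r) = cl n (p ^ f))
  have hMK : Nat.card K * Nat.card (G ⧸ K) = Nat.card G := by
    rw [← Subgroup.index_eq_card, Subgroup.card_mul_index]
  have hcent : ∀ r : ℕ, r.Prime → orderOf ((p ^ f : ℕ) : ZMod r) = cl n (p ^ f) → ∀ y : G ⧸ K, orderOf y = r →
      Nat.card (centralizer ({y} : Set (G ⧸ K))) ∣ mm n (p ^ f) := by
    intro r hr ho y hy
    obtain ⟨y', hy', -, h1, -⟩ := H166.CS.fusion_quot hr K (hKr r hr ho) hy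
    rw [(h.tor hr ho).cent y' (hy' ▸ dvd_rfl)] at h1
    exact h1
  obtain ⟨S, hS1, hS2, hS3, hS4, hS5⟩ := exists_socle (Γ := G ⧸ K)
    (P := fun r => orderOf ((p ^ f : ℕ) : ZMod r) = cl n (p ^ f)) (mm_odd hq (show 1 ≤ n by omega)) (by
      obtain ⟨r, hr, ho⟩ := exists_cl hn hq
      refine ⟨r, hr, ho, ?_⟩
      have h1 := (h.tor hr ho).dvd
      rw [← hMK] at h1
      exact ((hr.dvd_mul).1 h1).resolve_left (hKr r hr ho)) hcent hmin (by
      intro N hN r hr hP a ha hNa hNm hl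
      refine h.hab hKn K hKr (N := Nat.card N) ?_ hNm hl
      rw [hNa]
      exact hr.two_le.trans (Nat.le_self_pow (by omega) r))
  refine ⟨K, hKnor, S, hn, h.hY, hMK, hS1, hS2, hS3, hS4, hS5, hcent, ?_, h.kap hKn K hKr,
    fun h32 => h.kapp hKn K hKr h32, fun h3 h2 => h.kap32 hKn K hKr h3 h2⟩
  intro r hr ho h1 y hy
  obtain ⟨y', hy', -, -, h2⟩ := H166.CS.fusion_quot hr K (hKr r hr ho) hy
  refine h2.trans ?_
  obtain ⟨h3, h4⟩ := H166.CS.fusion hr h1 hy' ((h.tor hr ho).cent y' (hy' ▸ dvd_rfl))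
  have h5 := H166.CS.fusion_val hn h.hY hr ho
  have h6 := h4.trans h5
  have h7 := two_n_lt hn hr ho
  exact (Nat.ModEq.eq_of_lt_of_lt h6 h3 h7).le

end Cfsg.Agent.H221.CS
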