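import Mathlib
import Cfsg.Agent.H221.CS.DatOf

/-!
# S3677, rows `PSp(2n, q)` and `PΩ(2n + 1, q)`: the end (helper221)
-/

set_option autoImplicit false
set_option linter.unusedSectionVars false

namespace Cfsg.Agent.H221.CS

open Subgroup Cfsg Cfsg.Agent.H364 Cfsg.Agent.H902 Cfsg.Agent.H902.Art Cfsg.Agent.H902.Lte

universe u v

/-- a section of the same order -/
theorem simple_of_card {G : Type u} [Group G] [Finite G] (K : Subgroup G) [K.Normal] (S : Subgroup (G ⧸ K))
    (hs : IsSimpleGroup S) (h : Nat.card S = Nat.card G) : IsSimpleGroup G := by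
  have h1 : Nat.card K * Nat.card (G ⧸ K) = Nat.card G := by
    rw [← Subgroup.index_eq_card, Subgroup.card_mul_index]
  have h2 : Nat.card S ≤ Nat.card (G ⧸ K) := Nat.le_of_dvd Nat.card_pos (Subgroup.card_subgroup_dvd_card S)
  have h0 : 0 < Nat.card (G ⧸ K) := Nat.card_pos
  have hK0 : 0 < Nat.card K := Nat.card_pos
  have h3 : Nat.card K = 1 := by
    by_contra hne
    have h4 : 2 * Nat.card (G ⧸ K) ≤ Nat.card K * Nat.card (G ⧸ K) := Nat.mul_le_mul_right _ (by omega)
    omega
  have hK : K = ⊥ := Subgroup.card_eq_one.1 h3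
  have hS : S = ⊤ := Subgroup.eq_top_of_card_eq S (by rw [h3, one_mul] at h1; omega)
  subst hS
  have h4 : IsSimpleGroup (G ⧸ K) := (Subgroup.topEquiv (G := G ⧸ K)).symm.isSimpleGroup
  have hinj : Function.Injective (QuotientGroup.mk' K) := by
    rw [← MonoidHom.ker_eq_bot_iff, QuotientGroup.ker_mk', hK]
  exact (MulEquiv.ofBijective (QuotientGroup.mk' K) ⟨hinj, QuotientGroup.mk'_surjective K⟩).isSimpleGroup

/-- a proper subgroup of index at most `8` in a simple group -/
theorem card_le_of_index {L : Type v} [Group L] [Finite L] [IsSimpleGroup L] (H : Subgroup L) (hne : H ≠ ⊤)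
    {k : ℕ} (hi : H.index ≤ k) : Nat.card L ≤ k.factorial := by
  have hinj : Function.Injective (MulAction.toPermHom L (L ⧸ H)) := by
    rw [← MonoidHom.ker_eq_bot_iff, ← Subgroup.normalCore_eq_ker]
    rcases IsSimpleGroup.eq_bot_or_eq_top_of_normal H.normalCore inferInstance with h | h
    · exact h
    · exact absurd (top_le_iff.1 (h ▸ Subgroup.normalCore_le H)) hne
  have h1 := Nat.card_le_card_of_injective _ hinj
  have h2 : Nat.card (Equiv.Perm (L ⧸ H)) = H.index.factorial := by
    rw [Nat.card_perm, Subgroup.index_eq_card]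
  rw [h2] at h1
  exact h1.trans (Nat.factorial_le hi)

/-- the centralizer indices of `G` are centralizer indices of `L` -/
theorem exists_index {G : Type u} [Group G] [Finite G] {L : Type v} [Group L] [Finite L] (h : H431.CS.Same G L) (x : G) :
    ∃ y : L, (centralizer ({x} : Set G)).index = (centralizer ({y} : Set L)).index := by
  obtain ⟨y, hy⟩ := h.mem x
  refine ⟨y, ?_⟩
  have h1 := Subgroup.card_mul_index (centralizer ({x} : Set G))
  have h2 := Subgroup.card_mul_index (centralizer ({y} : Set L))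
  have hy' : Nat.card (centralizer ({y} : Set L)) = Nat.card (centralizer ({x} : Set G)) := hy
  rw [hy', ← h.card, ← h1] at h2
  exact (Nat.eq_of_mul_eq_mul_left Nat.card_pos h2).symm

/-- no normal subgroup of order `8` -/
theorem no_eight {G : Type u} [Group G] [Finite G] {L : Type v} [Group L] [Finite L] [IsSimpleGroup L]
    (h : H431.CS.Same G L) (hc : 40320 < Nat.card L) (h1 : ∀ x : G, (centralizer ({x} : Set G)).index = 1 → x = 1)
    (K : Subgroup G) [K.Normal] (hK : Nat.card K = 8) : False := by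
  obtain ⟨x, hx, hx1⟩ := K.bot_or_exists_ne_one.resolve_left (by
    rintro rfl
    rw [Subgroup.card_bot] at hK
    omega)
  have h2 := (H429.CS.index_lt_of_normal K hx).resolve_right hx1
  obtain ⟨y, hy⟩ := exists_index h x
  have h3 : centralizer ({y} : Set L) ≠ ⊤ := by
    intro h4
    rw [h4, Subgroup.index_top] at hy
    exact hx1 (h1 x hy)
  have h4 := card_le_of_index _ h3 (k := 8) (by omega)
  have h5 : Nat.factorial 8 = 40320 := by decide
  omega

/-- **the final step** -/
theorem RowHyp.simple {G : Type u} [Group G] [Finite G] {L : Type v} [Group L] [Finite L] [IsSimpleGroup L]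
    {n p f : ℕ} (h : RowHyp G n p f) (hS : H431.CS.Same G L) (hKn : H566.KnownAll.{u})
    (hfin : ∀ (K : Subgroup G) (_ : K.Normal) (S : Subgroup (G ⧸ K)), Dat n p f (Nat.card G) (Nat.card K) (G ⧸ K) S →
      Nat.card S = Nat.card G ∨ (n = 3 ∧ p ^ f = 2 ∧ Nat.card K = 8 ∧ Nat.card S = 181440)) : IsSimpleGroup G := by
  obtain ⟨K, hK, S, hD⟩ := h.dat hKn
  rcases hfin K hK S hD with h1 | ⟨rfl, h2, h3, -⟩
  · exact simple_of_card K S hD.simple h1
  · exfalso
    refine no_eight hS ?_ (fun x hx => h.eq_one hx) K h3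
    have hv := h.card_val
    have hg : Nat.gcd 2 (2 - 1) = 1 := rfl
    have e2 : 2 ^ 3 ^ 2 * SpVal.AA 3 2 = 1451520 := by decide
    rw [h2, hg, one_mul, e2] at hv
    rw [← hS.card, hv]
    norm_num

end Cfsg.Agent.H221.CS
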